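import Groth.Agent.Snapper.Main
import Groth.Agent.S17630

/-!
# Growth of the cohomology of twists

`dim_k H^i(X, M ⊗ L^m) ≤ C (m+1)^d` when the support of the coherent module `M` has dimension at most
`d`, for any invertible `L` on a proper scheme over a field.
-/

noncomputable section

set_option linter.style.haveILetI false
set_option linter.unusedSectionVars false
set_option backward.isDefEq.respectTransparency false
set_option backward.isDefEq.respectTransparency.types false

universe u

open CategoryTheory CategoryTheory.Limits AlgebraicGeometry TopologicalSpace Opposite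
open Groth.Agent.PnCoh.Finite (mapLin deltaLin)

namespace Groth.Agent.VarGrow31

open Groth.Agent

/-- Growth of order less than `d`. -/
def GrowLt : ℕ → (ℕ → ℕ) → Prop
  | 0, f => ∀ m, f m = 0
  | d + 1, f => ∃ C : ℕ, ∀ m, f m ≤ C * (m + 1) ^ d

theorem GrowLt.mono {d : ℕ} {f g : ℕ → ℕ} (h : GrowLt d f) (e : ∀ m, g m ≤ f m) : GrowLt d g := by
  cases d with
  | zero => exact fun m => Nat.le_zero.1 (h m ▸ e m)
  | succ d => exact h.imp fun C hC m => (e m).trans (hC m)

theorem GrowLt.add {d : ℕ} {f g : ℕ → ℕ} (h : GrowLt d f) (h' : GrowLt d g) :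
    GrowLt d (fun m => f m + g m) := by
  cases d with
  | zero => exact fun m => by simp [h m, h' m]
  | succ d =>
    obtain ⟨C, hC⟩ := h
    obtain ⟨C', hC'⟩ := h'
    exact ⟨C + C', fun m => by rw [add_mul]; exact add_le_add (hC m) (hC' m)⟩

theorem growLt_zero (d : ℕ) : GrowLt d (fun _ => 0) := by
  cases d with
  | zero => exact fun _ => rfl
  | succ d => exact ⟨0, fun m => by simp⟩

/-- Summing the increments raises the order by one. -/
theorem GrowLt.of_step {d : ℕ} {f g : ℕ → ℕ} (h : GrowLt d g) (e : ∀ m, f (m + 1) ≤ f m + g m) :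
    GrowLt (d + 1) f := by
  cases d with
  | zero =>
    refine ⟨f 0, fun m => ?_⟩
    induction m with
    | zero => simp
    | succ m ih => have := e m; rw [h m] at this; simp only [pow_zero, mul_one] at ih ⊢; omega
  | succ d =>
    obtain ⟨C, hC⟩ := h
    refine ⟨f 0 + C, fun m => ?_⟩
    induction m with
    | zero => simp
    | succ m ih =>
      calc f (m + 1) ≤ f m + g m := e m
        _ ≤ (f 0 + C) * (m + 1) ^ (d + 1) + (f 0 + C) * (m + 1) ^ d :=
          add_le_add ih ((hC m).trans (Nat.mul_le_mul_right _ (Nat.le_add_left _ _)))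
        _ = (f 0 + C) * ((m + 2) * (m + 1) ^ d) := by ring
        _ ≤ (f 0 + C) * (m + 1 + 1) ^ (d + 1) := by
          refine Nat.mul_le_mul_left _ ?_
          rw [pow_succ, mul_comm]
          exact Nat.mul_le_mul_right _ (Nat.pow_le_pow_left (by omega) d)

variable (k : Type u) [Field k] {X : Scheme.{u}} [X.Over (Spec (CommRingCat.of k))]

/-- The dimensions of the cohomology of the twists. -/
def hd (L M : X.Modules) (i : ℕ) : ℕ → ℕ :=
  fun m => Module.finrank k (Coh.HH X (ShStab.twist X L M m) i)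

theorem hd_congr {L M N : X.Modules} (e : M ≅ N) (i m : ℕ) : hd k L M i m = hd k L N i m :=
  (CurveCohLib.hhEquiv (k := k) ((AmpleVan.tw (CohB1.tensorPow L m)).mapIso e) i).finrank_eq

variable [IsProper (X ↘ Spec (CommRingCat.of k))]

/-- The bound on the quotient in a short exact sequence. -/
theorem finrank_X₃_le {S : ShortComplex X.Modules} (hS : S.ShortExact)
    (h₁ : Coh.IsCoh S.X₁) (h₂ : Coh.IsCoh S.X₂) (h₃ : Coh.IsCoh S.X₃) (n : ℕ) :
    Module.finrank k (Coh.HH X S.X₃ n) ≤
      Module.finrank k (Coh.HH X S.X₂ n) + Module.finrank k (Coh.HH X S.X₁ (n + 1)) := by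
  haveI := fun n => S0002.result k X S.X₁ h₁ n
  haveI := fun n => S0002.result k X S.X₂ h₂ n
  haveI := fun n => S0002.result k X S.X₃ h₃ n
  have e := (deltaLin k hS n).finrank_range_add_finrank_ker
  rw [← Euler.range_mapLin_g k hS n] at e
  have := (mapLin k S.g n).finrank_range_le
  have := (LinearMap.range (deltaLin k hS n)).finrank_le
  omega

/-- All cohomological degrees at once. -/
def Small (L M : X.Modules) (d : ℕ) : Prop := ∀ i, GrowLt d (hd k L M i)

theorem small_of_iso {L M N : X.Modules} {d : ℕ} (e : M ≅ N) (h : Small k L M d) : Small k L N d :=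
  fun i => (h i).mono fun m => (hd_congr k e i m).ge

variable {L : X.Modules}

section bounds

variable (hL : PicF.IsInvertible L) {S : ShortComplex X.Modules} (hS : S.ShortExact)
  (h1 : Coh.IsCoh S.X₁) (h2 : Coh.IsCoh S.X₂) (h3 : Coh.IsCoh S.X₃)
include hL hS h1 h2 h3

theorem twist_bounds (i m : ℕ) :
    hd k L S.X₂ i m ≤ hd k L S.X₁ i m + hd k L S.X₃ i m ∧
    hd k L S.X₁ 0 m ≤ hd k L S.X₂ 0 m ∧
    hd k L S.X₁ (i + 1) m ≤ hd k L S.X₂ (i + 1) m + hd k L S.X₃ i m ∧
    hd k L S.X₃ i m ≤ hd k L S.X₂ i m + hd k L S.X₁ (i + 1) m := by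
  haveI := CurveCohLib.isNoetherian_of_proper (k := k) (X := X)
  let F := AmpleVan.tw (CohB1.tensorPow L m)
  haveI := AmpleVan.isEquivalence_tw (InvX.isInvertible_tensorPow hL m)
  have hc : ∀ {A : X.Modules}, Coh.IsCoh A → Coh.IsCoh (F.obj A) := fun h =>
    AmpleVan.isCoh_tensor h (AmpleVan.isCoh_invertible (InvX.isInvertible_tensorPow hL m))
  have hF := hS.map_of_exact F
  obtain ⟨a, b, c⟩ := S17630.bounds k (S := S.map F) hF (hc h1) (hc h2) (hc h3) i
  exact ⟨a, b, c, finrank_X₃_le k (S := S.map F) hF (hc h1) (hc h2) (hc h3) i⟩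

theorem small_X₂ {d : ℕ} (a : Small k L S.X₁ d) (c : Small k L S.X₃ d) : Small k L S.X₂ d :=
  fun i => ((a i).add (c i)).mono fun m => (twist_bounds k hL hS h1 h2 h3 i m).1

theorem small_X₁ {d : ℕ} (b : Small k L S.X₂ d) (c : Small k L S.X₃ d) : Small k L S.X₁ d := by
  intro i
  cases i with
  | zero => exact (b 0).mono fun m => (twist_bounds k hL hS h1 h2 h3 0 m).2.1
  | succ i => exact ((b (i + 1)).add (c i)).mono fun m => (twist_bounds k hL hS h1 h2 h3 i m).2.2.1

theorem small_X₃ {d : ℕ} (a : Small k L S.X₁ d) (b : Small k L S.X₂ d) : Small k L S.X₃ d :=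
  fun i => ((b i).add (a (i + 1))).mono fun m => (twist_bounds k hL hS h1 h2 h3 i m).2.2.2

end bounds

theorem small_of_support_empty (hL : PicF.IsInvertible L) {M : X.Modules} (hM : Coh.IsQCoh M)
    (h : CohB1.support M = ∅) (d : ℕ) : Small k L M d := by
  haveI := CurveCohLib.isNoetherian_of_proper (k := k) (X := X)
  have hz : IsZero M := QCoh.isZero_of_app_eq_zero hM fun W s =>
    TopCat.Presheaf.section_ext ⟨M.presheaf, M.isSheaf⟩ _ _ _ fun y hy => by
      haveI : Subsingleton (M.presheaf.stalk y) := not_not.1 fun hy' => h.le hy'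
      exact Subsingleton.elim _ _
  intro i
  refine (growLt_zero d).mono fun m => ?_
  haveI := AmpleVan.isEquivalence_tw (InvX.isInvertible_tensorPow hL m)
  have hzt : IsZero ((AmpleVan.tw (CohB1.tensorPow L m)).obj M) :=
    (AmpleVan.tw (CohB1.tensorPow L m)).map_isZero hz
  haveI := Euler.subsingleton_HH_of_isZero hzt i
  exact (Module.finrank_zero_of_subsingleton (R := k)
    (M := Coh.HH X ((AmpleVan.tw (CohB1.tensorPow L m)).obj M) i)).le

/-- A map with small kernel and cokernel changes the cohomology by a small error. -/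
theorem exists_error_of_small (hL : PicF.IsInvertible L) {d : ℕ} {A B : X.Modules} (hA : Coh.IsCoh A)
    (hB : Coh.IsCoh B) (φ : A ⟶ B) (sK : Small k L (kernel φ) d) (sC : Small k L (cokernel φ) d) (i : ℕ) :
    ∃ g, GrowLt d g ∧ ∀ m, hd k L A i m ≤ hd k L B i m + g m ∧ hd k L B i m ≤ hd k L A i m + g m := by
  haveI := CurveCohLib.isNoetherian_of_proper (k := k) (X := X)
  have hK := QCoh.isCoh_kernel hA hB φ
  have hC := QCoh.isCoh_cokernel hA.1 hB φ
  have hI : Coh.IsCoh (Abelian.image φ) :=
    QCoh.isCoh_of_epi (Abelian.factorThruImage φ) hA (QCoh.isQCoh_kernel hB.1 hC.1 _)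
  have hS1 : (ShortComplex.mk (kernel.ι φ) (Abelian.factorThruImage φ)
      ((cancel_mono (Abelian.image.ι φ)).1
        (by rw [Category.assoc, Abelian.image.fac, kernel.condition, zero_comp]))).ShortExact :=
    { exact := ShortComplex.exact_of_f_is_kernel _ (KernelFork.IsLimit.ofι' _ _ fun {T} t ht =>
        ⟨kernel.lift φ t (by rw [← Abelian.image.fac φ, reassoc_of% ht, zero_comp]), kernel.lift_ι _ _ _⟩)
      mono_f := inferInstance
      epi_g := inferInstance }
  have hS2 : (ShortComplex.mk (Abelian.image.ι φ) (cokernel.π φ) (kernel.condition _)).ShortExact :=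
    { exact := ShortComplex.exact_of_f_is_kernel _ (kernelIsKernel (cokernel.π φ))
      mono_f := inferInstance
      epi_g := inferInstance }
  have hI1 : ∀ m, hd k L A i m ≤ hd k L (Abelian.image φ) i m + hd k L (kernel φ) i m ∧
      hd k L (Abelian.image φ) i m ≤ hd k L A i m + hd k L (kernel φ) (i + 1) m := fun m => by
    obtain ⟨a, -, -, b⟩ := twist_bounds k hL hS1 hK hA hI i m
    exact ⟨a.trans (add_comm _ _).le, b⟩
  have hI2 : ∀ m, hd k L B i m ≤ hd k L (Abelian.image φ) i m + hd k L (cokernel φ) i m ∧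
      hd k L (Abelian.image φ) i m ≤ hd k L B i m + hd k L (cokernel φ) (i - 1) m := fun m => by
    obtain ⟨a, b, c, -⟩ := twist_bounds k hL hS2 hI hB hC (i - 1) m
    refine ⟨(twist_bounds k hL hS2 hI hB hC i m).1, ?_⟩
    cases i with
    | zero => exact b.trans (Nat.le_add_right _ _)
    | succ i => exact c
  refine ⟨fun m => (hd k L (kernel φ) i m + hd k L (kernel φ) (i + 1) m) +
    (hd k L (cokernel φ) i m + hd k L (cokernel φ) (i - 1) m),
    ((sK i).add (sK (i + 1))).add ((sC i).add (sC (i - 1))), fun m => ?_⟩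
  obtain ⟨a, b⟩ := hI1 m
  obtain ⟨c, e⟩ := hI2 m
  dsimp only
  omega

/-- Modules linked over `U` have the same cohomology up to the error supported outside. -/
theorem exists_error_of_isoOn (hL : PicF.IsInvertible L) {d : ℕ} {C : Set X} {U : X.Opens}
    (IH : ∀ M : X.Modules, Coh.IsCoh M → CohB1.support M ⊆ C \ U → Small k L M d)
    {A B : X.Modules} (hA : Coh.IsCoh A) (hB : Coh.IsCoh B) (hAC : CohB1.support A ⊆ C)
    (hBC : CohB1.support B ⊆ C) (φ : A ⟶ B) (hφ : Snapper.IsoOn U φ) (i : ℕ) :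
    ∃ g, GrowLt d g ∧ ∀ m, hd k L A i m ≤ hd k L B i m + g m ∧ hd k L B i m ≤ hd k L A i m + g m := by
  haveI := CurveCohLib.isNoetherian_of_proper (k := k) (X := X)
  obtain ⟨hk, hc⟩ := Snapper.support_subset_compl hφ
  obtain ⟨hk', hc'⟩ := Snapper.support_sub_of_map hA hB φ
  exact exists_error_of_small k hL hA hB φ
    (IH _ (QCoh.isCoh_kernel hA hB φ) fun x hx => ⟨hAC (hk' hx), hk hx⟩)
    (IH _ (QCoh.isCoh_cokernel hA.1 hB φ) fun x hx => ⟨hBC (hc' hx), hc hx⟩) i

/-- A split into pieces with smaller supports. -/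
theorem small_of_split (hL : PicF.IsInvertible L) {d : ℕ} {C C₁ C₂ : Closeds X}
    (hC : (C : Set X) ⊆ ↑C₁ ∪ ↑C₂)
    (h₁ : ∀ M : X.Modules, Coh.IsCoh M → CohB1.support M ⊆ C₁ → Small k L M d)
    (h₂ : ∀ M : X.Modules, Coh.IsCoh M → CohB1.support M ⊆ C₂ → Small k L M d)
    {M : X.Modules} (hM : Coh.IsCoh M) (hMC : CohB1.support M ⊆ C) : Small k L M d := by
  haveI := CurveCohLib.isNoetherian_of_proper (k := k) (X := X)
  let U : X.Opens := ⟨(C₂ : Set X)ᶜ, C₂.isClosed.isOpen_compl⟩
  let φ := Snapper.resMap U M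
  have hQ : Coh.IsQCoh ((Scheme.Modules.pushforward U.ι).obj (M.restrict U.ι)) :=
    QCoh.isQCoh_pushforward U.ι (QCoh.isQCoh_restrict U.ι hM.1)
  have hco := QCoh.isQCoh_cokernel hM.1 hQ φ
  have hI : Coh.IsCoh (Abelian.image φ) :=
    QCoh.isCoh_of_epi (Abelian.factorThruImage φ) hM (QCoh.isQCoh_kernel hQ hco _)
  have hK : Coh.IsCoh (kernel φ) := QCoh.isCoh_of_mono (kernel.ι φ) hM (QCoh.isQCoh_kernel hM.1 hQ φ)
  refine small_X₂ k hL
    (S := ShortComplex.mk (kernel.ι φ) (Abelian.factorThruImage φ)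
      ((cancel_mono (Abelian.image.ι φ)).1 (by rw [Category.assoc, Abelian.image.fac, kernel.condition, zero_comp])))
    { exact := ShortComplex.exact_of_f_is_kernel _ (KernelFork.IsLimit.ofι' _ _ fun {T} t ht =>
        ⟨kernel.lift φ t (by rw [← Abelian.image.fac φ, reassoc_of% ht, zero_comp]), kernel.lift_ι _ _ _⟩)
      mono_f := inferInstance
      epi_g := inferInstance } hK hM hI (h₂ _ hK fun x hx => ?_) (h₁ _ hI fun x hx => ?_)
  · exact not_not.1 fun hx2 =>
      (Snapper.support_subset_compl (Snapper.isoOn_resMap U M)).1 hx (show x ∈ U from hx2)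
  · by_contra hx1
    have hP := QCoh.mem_support_of_mono hI.1 hQ (Abelian.image.ι φ) hx
    refine Snapper.notMem_support_push (W := ⟨(C₁ : Set X)ᶜ, C₁.isClosed.isOpen_compl⟩) hx1 ?_ hP
    exact Set.disjoint_left.2 fun y hy hyM => (hC (hMC hyM)).elim hy.1 hy.2

/-- The step: comparison of consecutive twists over a frame. -/
theorem small_step (hL : PicF.IsInvertible L) {d : ℕ} {C : Closeds X} {U : X.Opens} {e : Γ(L, U)}
    (he : InvX.IsFrame e)
    (IH : ∀ M : X.Modules, Coh.IsCoh M → CohB1.support M ⊆ (C : Set X) \ U → Small k L M d)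
    {M : X.Modules} (hM : Coh.IsCoh M) (hMC : CohB1.support M ⊆ C) : Small k L M (d + 1) := by
  haveI := CurveCohLib.isNoetherian_of_proper (k := k) (X := X)
  obtain ⟨K, I, a, b, c, hK, hI, ha, hb, hc⟩ := Snapper.exists_link_frame hL he
  have hLc := AmpleVan.isCoh_invertible hL
  let F := AmpleVan.tw M
  have hsupp : ∀ A, CohB1.support (F.obj A) ⊆ C := fun A => fun x hx => hMC (CurveTensor.support_tensor_subset hx)
  have hcoh : ∀ {A}, Coh.IsCoh A → Coh.IsCoh (F.obj A) := fun h => AmpleVan.isCoh_tensor h hM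
  intro i
  obtain ⟨g₁, hg₁, e1⟩ := exists_error_of_isoOn k hL IH (hcoh hK) (hcoh QCoh.isCoh_structureModule') (hsupp _) (hsupp _) _ (ha.tensor M) i
  obtain ⟨g₂, hg₂, e2⟩ := exists_error_of_isoOn k hL IH (hcoh hK) (hcoh hI) (hsupp _) (hsupp _) _ (hb.tensor M) i
  obtain ⟨g₃, hg₃, e3⟩ := exists_error_of_isoOn k hL IH (hcoh hLc) (hcoh hI) (hsupp _) (hsupp _) _ (hc.tensor M) i
  refine GrowLt.of_step ((hg₁.add hg₂).add hg₃) fun m => ?_
  have h1 : hd k L (F.obj (Coh.structureModule X)) i m = hd k L M i m :=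
    (CurveCohLib.hhEquiv (k := k)
      ((AmpleVan.tw (CohB1.tensorPow L m)).mapIso (CurveTensor.structureTensorIso M)) i).finrank_eq
  have h2 : hd k L (F.obj L) i m = hd k L M i (m + 1) :=
    (CurveCohLib.hhEquiv (k := k) (Snapper.twistSuccIso L M m) i).finrank_eq
  have a1 := e1 m
  have a2 := e2 m
  have a3 := e3 m
  omega

/-- The cohomology of the twists of a coherent module grows at most like the power of the twist given
by the dimension of the support. -/
theorem small_of_dim_lt (hL : PicF.IsInvertible L) (d : ℕ) :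
    ∀ (C : Closeds X), topologicalKrullDim ↥(C : Set X) < (d : WithBot ℕ∞) →
      ∀ M : X.Modules, Coh.IsCoh M → CohB1.support M ⊆ C → Small k L M d := by
  haveI := CurveCohLib.isNoetherian_of_proper (k := k) (X := X)
  induction d with
  | zero =>
    intro C hC M hM hMC
    refine small_of_support_empty k hL hM.1 (Set.eq_empty_of_forall_notMem fun x hx => ?_) 0
    haveI : Nonempty ↥(C : Set X) := ⟨⟨x, hMC hx⟩⟩
    haveI : Nonempty (IrreducibleCloseds ↥(C : Set X)) :=
      ⟨⟨closure {⟨x, hMC hx⟩}, isIrreducible_singleton.closure, isClosed_closure⟩⟩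
    exact absurd hC (not_lt.2 (by exact_mod_cast Order.krullDim_nonneg))
  | succ d IHd =>
    intro C
    induction C using WellFoundedLT.induction with
    | ind C IH =>
      intro hC M hM hMC
      rcases Set.eq_empty_or_nonempty (C : Set X) with h0 | hne
      · exact small_of_support_empty k hL hM.1 (Set.subset_empty_iff.1 (h0 ▸ hMC)) _
      by_cases hirr : IsIrreducible (C : Set X)
      · obtain ⟨η, hη⟩ := QuasiSober.sober hirr C.isClosed
        have hηC : η ∈ (C : Set X) := hη.mem
        obtain ⟨U, hηU, e, he⟩ := InvX.exists_frame hL η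
        refine small_step k hL he (fun N hN hNs => IHd ⟨_, C.isClosed.sdiff U.2⟩ ?_ N hN hNs) hM hMC
        haveI : IrreducibleSpace ↥(C : Set X) := isIrreducible_iff_irreducibleSpace.1 hirr
        let Y : Set ↥(C : Set X) := {y | (y : X) ∈ (U : Set X)ᶜ}
        have hlt := H23.TopDim.dim_lt_of_ssubset (X := ↥(C : Set X)) (fun h => by rw [h] at hC; exact not_top_lt hC)
          (Y := Y) (U.2.isClosed_compl.preimage continuous_subtype_val)
          (fun h => (h.ge (Set.mem_univ ⟨η, hηC⟩) : η ∈ (U : Set X)ᶜ) hηU)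
        have hle : topologicalKrullDim ↥((C : Set X) \ U) ≤ topologicalKrullDim ↥Y := by
          let g : ↥((C : Set X) \ U) → ↥Y := fun p => ⟨⟨p.1, p.2.1⟩, p.2.2⟩
          have hg : Continuous g := (continuous_subtype_val.subtype_mk _).subtype_mk _
          have hcomp : Topology.IsInducing ((Subtype.val ∘ Subtype.val : ↥Y → X) ∘ g) :=
            show Topology.IsInducing (Subtype.val : ↥((C : Set X) \ U) → X) from Topology.IsInducing.subtypeVal
          exact ((Topology.IsInducing.subtypeVal.comp Topology.IsInducing.subtypeVal).of_comp_iff.1 hcomp).topologicalKrullDim_le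
        refine lt_of_le_of_lt hle ?_
        revert hlt hC
        generalize topologicalKrullDim ↥Y = a
        generalize topologicalKrullDim ↥(C : Set X) = b
        intro hC hlt
        cases a with
        | bot => exact WithBot.bot_lt_coe _
        | coe a =>
          cases b with
          | bot => exact absurd hlt not_lt_bot
          | coe b =>
            have h1 : a < b := WithBot.coe_lt_coe.1 hlt
            have h2 : b < ((d + 1 : ℕ) : ℕ∞) := WithBot.coe_lt_coe.1 hC
            refine WithBot.coe_lt_coe.2 (lt_of_lt_of_le h1 ?_)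
            exact ENat.lt_add_one_iff (ENat.natCast_ne_top d) |>.1 (by exact_mod_cast h2)
      · obtain ⟨A, B, hA, hB, hsub, hnA, hnB⟩ : ∃ A B : Set X, IsClosed A ∧ IsClosed B ∧
            (C : Set X) ⊆ A ∪ B ∧ ¬ (C : Set X) ⊆ A ∧ ¬ (C : Set X) ⊆ B := by
          by_contra! hno
          exact hirr ⟨hne, isPreirreducible_iff_isClosed_union_isClosed.2 fun A B hA hB hs =>
            or_iff_not_imp_left.2 fun hA' => hno A B hA hB hs hA'⟩
        let C₁ : Closeds X := ⟨(C : Set X) ∩ A, C.isClosed.inter hA⟩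
        let C₂ : Closeds X := ⟨(C : Set X) ∩ B, C.isClosed.inter hB⟩
        have h1 : C₁ < C := lt_of_le_of_ne (Set.inter_subset_left : (C : Set X) ∩ A ⊆ C)
          fun h => hnA (Set.inter_eq_left.1 (congrArg (SetLike.coe) h))
        have h2 : C₂ < C := lt_of_le_of_ne (Set.inter_subset_left : (C : Set X) ∩ B ⊆ C)
          fun h => hnB (Set.inter_eq_left.1 (congrArg (SetLike.coe) h))
        have hdim : ∀ C' : Closeds X, C' ≤ C → topologicalKrullDim ↥(C' : Set X) < ((d + 1 : ℕ) : WithBot ℕ∞) :=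
          fun C' h => lt_of_le_of_lt (H23.TopDim.dim_le_dim_of_subset (show (C' : Set X) ⊆ C from h)) hC
        exact small_of_split k hL (C := C) (C₁ := C₁) (C₂ := C₂)
          (fun x hx => (hsub hx).imp (fun h => ⟨hx, h⟩) fun h => ⟨hx, h⟩)
          (IH C₁ h1 (hdim C₁ h1.le)) (IH C₂ h2 (hdim C₂ h2.le)) hM hMC

/-- The bound in terms of the dimension of the support. -/
theorem small_of_support (hL : PicF.IsInvertible L) {d : ℕ} {M : X.Modules} (hM : Coh.IsCoh M)
    (hd : topologicalKrullDim ↥(CohB1.support M) < (d : WithBot ℕ∞)) : Small k L M d :=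
  small_of_dim_lt k hL d ⟨CohB1.support M, by
    haveI := CurveCohLib.isNoetherian_of_proper (k := k) (X := X)
    exact QCoh.isClosed_support_of_isFT hM.1 hM.2⟩ hd M hM subset_rfl

end Groth.Agent.VarGrow31
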