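import Mathlib.Order.LiminfLimsup
import Mathlib.Topology.Algebra.Order.LiminfLimsup
import Mathlib.Analysis.SpecificLimits.Basic
import Mathlib.Analysis.Asymptotics.Lemmas

/-!
# Upper limits of normalised sequences of natural numbers
-/

open Filter Topology

namespace Groth.Agent.VarGrow31

/-- The normalisation `f m · c / m^n`. -/
noncomputable def normSeq (n : ℕ) (c : ℝ) (f : ℕ → ℕ) (m : ℕ) : ℝ := (f m : ℝ) * c / (m : ℝ) ^ n

theorem succ_pow_le (d : ℕ) {m : ℕ} (hm : 1 ≤ m) : ((m : ℝ) + 1) ^ d ≤ 2 ^ d * (m : ℝ) ^ d := by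
  have : (1 : ℝ) ≤ m := by exact_mod_cast hm
  rw [← mul_pow]
  exact pow_le_pow_left₀ (by positivity) (by linarith) d

theorem normSeq_nonneg (n : ℕ) {c : ℝ} (hc : 0 ≤ c) (f : ℕ → ℕ) (m : ℕ) : 0 ≤ normSeq n c f m := by
  unfold normSeq; positivity

/-- `f ≤ C (m+1)^n` makes the normalised sequence eventually bounded. -/
theorem normSeq_bounded {n : ℕ} {c : ℝ} (hc : 0 ≤ c) {f : ℕ → ℕ} {C : ℕ}
    (h : ∀ m, f m ≤ C * (m + 1) ^ n) : IsBoundedUnder (· ≤ ·) atTop (normSeq n c f) := by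
  refine isBoundedUnder_of_eventually_le (a := (C : ℝ) * 2 ^ n * c) ?_
  filter_upwards [eventually_ge_atTop 1] with m hm
  have hm' : (0 : ℝ) < (m : ℝ) ^ n := by
    have : (0 : ℝ) < m := by exact_mod_cast hm
    positivity
  rw [normSeq, div_le_iff₀ hm']
  have h' : (f m : ℝ) ≤ (C : ℝ) * ((m : ℝ) + 1) ^ n := by exact_mod_cast h m
  have := mul_le_mul_of_nonneg_right (h'.trans (mul_le_mul_of_nonneg_left (succ_pow_le n hm) (Nat.cast_nonneg C))) hc
  linarith

theorem normSeq_isCobounded (n : ℕ) {c : ℝ} (hc : 0 ≤ c) (f : ℕ → ℕ) :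
    IsCoboundedUnder (· ≤ ·) atTop (normSeq n c f) :=
  (isBoundedUnder_of_eventually_ge (a := 0)
    (Eventually.of_forall (normSeq_nonneg n hc f))).isCoboundedUnder_le

theorem tendsto_normSeq_zero {n : ℕ} (c : ℝ) {f : ℕ → ℕ} {C : ℕ}
    (h : ∀ m, f m ≤ C * (m + 1) ^ n) : Tendsto (normSeq (n + 1) c f) atTop (𝓝 0) := by
  refine squeeze_zero_norm' (a := fun m : ℕ => (C : ℝ) * 2 ^ n * |c| * (1 / (m : ℝ))) ?_ ?_
  · filter_upwards [eventually_ge_atTop 1] with m hm
    have hm0 : (0 : ℝ) < m := by exact_mod_cast hm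
    rw [Real.norm_eq_abs, normSeq, abs_div, abs_mul, Nat.abs_cast,
      abs_of_nonneg (pow_nonneg hm0.le _), pow_succ, div_le_iff₀ (by positivity)]
    have h' : (f m : ℝ) ≤ (C : ℝ) * ((m : ℝ) + 1) ^ n := by exact_mod_cast h m
    have := mul_le_mul_of_nonneg_right
      (h'.trans (mul_le_mul_of_nonneg_left (succ_pow_le n hm) (Nat.cast_nonneg C))) (abs_nonneg c)
    field_simp
    linarith
  · simpa using tendsto_one_div_atTop_nhds_zero_nat.const_mul ((C : ℝ) * 2 ^ n * |c|)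

/-- Sequences differing by a null sequence have the same upper limit. -/
theorem limsup_eq_of_sub {u v : ℕ → ℝ} (hu : IsBoundedUnder (· ≤ ·) atTop u)
    (hu' : IsCoboundedUnder (· ≤ ·) atTop u) (hv : IsBoundedUnder (· ≤ ·) atTop v)
    (hv' : IsCoboundedUnder (· ≤ ·) atTop v) (h : Tendsto (fun m => u m - v m) atTop (𝓝 0)) :
    limsup u atTop = limsup v atTop := by
  have key : ∀ {u v : ℕ → ℝ}, IsCoboundedUnder (· ≤ ·) atTop u → IsBoundedUnder (· ≤ ·) atTop v →
      IsCoboundedUnder (· ≤ ·) atTop v → Tendsto (fun m => u m - v m) atTop (𝓝 0) →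
      limsup u atTop ≤ limsup v atTop := by
    intro u v hu hv hv' h
    refine le_of_forall_pos_le_add fun ε hε => ?_
    rw [← limsup_add_const atTop v ε hv hv']
    refine limsup_le_limsup ?_ hu ?_
    · filter_upwards [h.eventually (gt_mem_nhds hε)] with m hm
      linarith
    · obtain ⟨b, hb⟩ := hv
      exact ⟨b + ε, by
        rw [eventually_map] at hb ⊢
        filter_upwards [hb] with m hm
        linarith⟩
  refine le_antisymm (key hu' hv hv' h) (key hv' hu hu' ?_)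
  simpa using h.neg

/-- Normalised sequences with small difference. -/
theorem limsup_normSeq_eq {n : ℕ} {c : ℝ} (hc : 0 ≤ c) {f g e : ℕ → ℕ} {C C' : ℕ}
    (hf : ∀ m, f m ≤ C * (m + 1) ^ n) (hfg : ∀ m, f m ≤ g m + e m ∧ g m ≤ f m + e m)
    (hC' : ∀ m, e m ≤ C' * (m + 1) ^ n) (he : Tendsto (normSeq n c e) atTop (𝓝 0)) :
    limsup (normSeq n c f) atTop = limsup (normSeq n c g) atTop := by
  refine limsup_eq_of_sub (normSeq_bounded hc hf) (normSeq_isCobounded n hc f)
    (normSeq_bounded hc (C := C + C') fun m => ?_) (normSeq_isCobounded n hc g) ?_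
  · rw [add_mul]
    exact (hfg m).2.trans (add_le_add (hf m) (hC' m))
  · refine squeeze_zero_norm (fun m => ?_) he
    rw [Real.norm_eq_abs, normSeq, normSeq, normSeq, ← sub_div, ← sub_mul, abs_div, abs_mul,
      abs_of_nonneg hc, abs_of_nonneg (pow_nonneg (Nat.cast_nonneg (α := ℝ) m) n)]
    have h1 : (f m : ℝ) ≤ g m + e m := by exact_mod_cast (hfg m).1
    have h2 : (g m : ℝ) ≤ f m + e m := by exact_mod_cast (hfg m).2
    gcongr
    rw [abs_le]
    constructor <;> linarith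

end Groth.Agent.VarGrow31
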