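import Groth.Agent.VarGrow31.Basic
import Groth.Agent.VarGrow31.Limsup
import Groth.Prelude.Def_W4c5asymptcohfnACF

/-!
# Asymptotic cohomology ignores modules with small support
-/

noncomputable section

set_option linter.style.haveILetI false
set_option linter.unusedSectionVars false
set_option backward.isDefEq.respectTransparency false
set_option backward.isDefEq.respectTransparency.types false

universe u

open CategoryTheory CategoryTheory.Limits AlgebraicGeometry TopologicalSpace Filter Topology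

namespace Groth.Agent.VarGrow31

open Groth.Agent

variable (k : Type u) [Field k] {X : Scheme.{u}} [X.Over (Spec (CommRingCat.of k))]

theorem hhatF_eq (n i : ℕ) (F L : X.Modules) :
    W4c5asymptcohfn.hhatF k X n i F L = limsup (normSeq n (n.factorial : ℝ) (hd k L F i)) atTop := rfl

variable [IsProper (X ↘ Spec (CommRingCat.of k))] {L : X.Modules}

theorem small_top (hL : PicF.IsInvertible L) {n : ℕ} (hn : topologicalKrullDim X ≤ n) {M : X.Modules}
    (hM : Coh.IsCoh M) : Small k L M (n + 1) :=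
  small_of_support k hL hM (lt_of_le_of_lt ((topologicalKrullDim_subspace_le X _).trans hn)
    (by exact_mod_cast Nat.lt_succ_self n))

theorem exists_bound_succ {n : ℕ} {f : ℕ → ℕ} (h : GrowLt n f) :
    (∃ C, ∀ m, f m ≤ C * (m + 1) ^ n) ∧ ∀ c : ℝ, Tendsto (normSeq n c f) atTop (𝓝 0) := by
  cases n with
  | zero =>
    refine ⟨⟨0, fun m => (h m).le.trans (Nat.zero_le _)⟩, fun c => ?_⟩
    have : normSeq 0 c f = fun _ => 0 := funext fun m => by simp [normSeq, h m]
    rw [this]
    exact tendsto_const_nhds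
  | succ n =>
    obtain ⟨C, hC⟩ := h
    refine ⟨⟨C, fun m => (hC m).trans ?_⟩, fun c => tendsto_normSeq_zero c hC⟩
    exact Nat.mul_le_mul_left _ (Nat.pow_le_pow_right (Nat.succ_pos m) (Nat.le_succ n))

/-- Dropping an error of small growth does not change the upper limit. -/
theorem limsup_eq_of_error {n : ℕ} {f g e : ℕ → ℕ} (hf : GrowLt (n + 1) f) (he : GrowLt n e)
    (hfg : ∀ m, f m ≤ g m + e m ∧ g m ≤ f m + e m) (c : ℝ) (hc : 0 ≤ c) :
    limsup (normSeq n c f) atTop = limsup (normSeq n c g) atTop := by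
  obtain ⟨C, hC⟩ := hf
  obtain ⟨⟨C', hC'⟩, hz⟩ := exists_bound_succ he
  exact limsup_normSeq_eq hc hC hfg hC' (hz c)

variable (hL : PicF.IsInvertible L) {n : ℕ} (hn : topologicalKrullDim X ≤ n)
  {S : ShortComplex X.Modules} (hS : S.ShortExact) (h1 : Coh.IsCoh S.X₁) (h2 : Coh.IsCoh S.X₂)
  (h3 : Coh.IsCoh S.X₃)
include hL hn hS h1 h2 h3

theorem hhatF_eq_of_small_left (hA : Small k L S.X₁ n) (i : ℕ) :
    W4c5asymptcohfn.hhatF k X n i S.X₂ L = W4c5asymptcohfn.hhatF k X n i S.X₃ L := by
  rw [hhatF_eq, hhatF_eq]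
  refine limsup_eq_of_error (small_top k hL hn h2 i) ((hA i).add (hA (i + 1))) (fun m => ?_) _
    (Nat.cast_nonneg _)
  obtain ⟨a, -, -, b⟩ := twist_bounds k hL hS h1 h2 h3 i m
  omega

theorem hhatF_eq_of_small_right (hC : Small k L S.X₃ n) (i : ℕ) :
    W4c5asymptcohfn.hhatF k X n i S.X₁ L = W4c5asymptcohfn.hhatF k X n i S.X₂ L := by
  rw [hhatF_eq, hhatF_eq]
  refine limsup_eq_of_error (small_top k hL hn h1 i) ((hC i).add (hC (i - 1))) (fun m => ?_) _
    (Nat.cast_nonneg _)
  obtain ⟨a, b, c, -⟩ := twist_bounds k hL hS h1 h2 h3 (i - 1) m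
  have := (twist_bounds k hL hS h1 h2 h3 i m).1
  cases i with
  | zero => simp only [Nat.zero_sub] at *; omega
  | succ i => simp only [Nat.add_sub_cancel] at *; omega

end Groth.Agent.VarGrow31
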