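import Groth.Agent.VarGrow31.Limsup

/-!
# Upper limits along multiples of `a`
-/

open Filter Topology

namespace Groth.Agent.VarGrow31

theorem tendsto_div_atTop_nat {a : ℕ} (ha : 0 < a) : Tendsto (fun m : ℕ => m / a) atTop atTop :=
  tendsto_atTop_atTop.2 fun b => ⟨b * a, fun _ hm => (Nat.le_div_iff_mul_le ha).2 hm⟩

theorem map_div_atTop {a : ℕ} (ha : 0 < a) : map (fun m : ℕ => m / a) atTop = atTop := by
  refine le_antisymm (tendsto_div_atTop_nat ha) fun s hs => ?_
  rw [mem_map, mem_atTop_sets] at hs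
  obtain ⟨b, hb⟩ := hs
  refine mem_atTop_sets.2 ⟨b, fun q hq => ?_⟩
  have := hb (q * a) ((Nat.le_mul_of_pos_right b ha).trans (Nat.mul_le_mul_right a hq))
  simpa [Set.mem_preimage, Nat.mul_div_cancel _ ha] using this

theorem limsup_normSeq_const_mul {n r : ℕ} {c : ℝ} (hc : 0 ≤ c) {f : ℕ → ℕ} {C : ℕ}
    (h : ∀ m, f m ≤ C * (m + 1) ^ n) :
    limsup (normSeq n c fun m => r * f m) atTop = (r : ℝ) * limsup (normSeq n c f) atTop := by
  have hm : Monotone fun x : ℝ => (r : ℝ) * x := fun x y hxy =>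
    mul_le_mul_of_nonneg_left hxy (Nat.cast_nonneg r)
  rw [show normSeq n c (fun m => r * f m) = (fun x : ℝ => (r : ℝ) * x) ∘ normSeq n c f from
    funext fun m => by simp only [normSeq, Function.comp_apply, Nat.cast_mul]; ring]
  exact (hm.map_limsup_of_continuousAt (normSeq n c f) (continuous_const_mul _).continuousAt
    (normSeq_bounded hc h) (normSeq_isCobounded n hc f)).symm

/-- A sequence whose values in each class modulo `a` are those at the multiples of `a`, up to a small
error, has along the multiples `a^n` times its upper limit. -/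
theorem limsup_normSeq_multiples {n : ℕ} {c : ℝ} (hc : 0 ≤ c) {a : ℕ} (ha : 0 < a) {f : ℕ → ℕ}
    {C : ℕ} (hf : ∀ m, f m ≤ C * (m + 1) ^ n) (e : ℕ → ℕ)
    (he : Tendsto (normSeq n c e) atTop (𝓝 0))
    (h : ∀ j < a, ∀ q, f (a * q + j) ≤ f (a * q) + e q ∧ f (a * q) ≤ f (a * q + j) + e q) :
    limsup (normSeq n c fun q => f (a * q)) atTop = (a : ℝ) ^ n * limsup (normSeq n c f) atTop := by
  set u := normSeq n c f with hu
  let g : ℕ → ℝ := fun q => u (a * q)
  have hgq : ∀ q, normSeq n c (fun q => f (a * q)) q = (a : ℝ) ^ n * g q := fun q => by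
    show _ = (a : ℝ) ^ n * ((f (a * q) : ℝ) * c / ((a * q : ℕ) : ℝ) ^ n)
    rw [normSeq, Nat.cast_mul, mul_pow, ← mul_div_assoc,
      mul_div_mul_left _ _ (pow_ne_zero n (by exact_mod_cast ha.ne'))]
  have hga : Tendsto (fun q : ℕ => a * q) atTop atTop :=
    tendsto_atTop_atTop.2 fun b => ⟨b, fun q hq => hq.trans (Nat.le_mul_of_pos_left q ha)⟩
  have hbg : IsBoundedUnder (· ≤ ·) atTop g := by
    obtain ⟨B, hB⟩ := normSeq_bounded hc hf
    exact ⟨B, by rw [eventually_map] at hB ⊢; exact hga.eventually hB⟩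
  have hcg : IsCoboundedUnder (· ≤ ·) atTop g :=
    (isBoundedUnder_of_eventually_ge (a := 0)
      (Eventually.of_forall fun q => normSeq_nonneg n hc f _)).isCoboundedUnder_le
  let w : ℕ → ℝ := g ∘ fun m : ℕ => m / a
  have hbw : IsBoundedUnder (· ≤ ·) atTop w := by
    obtain ⟨B, hB⟩ := hbg
    exact ⟨B, by rw [eventually_map] at hB ⊢; exact (tendsto_div_atTop_nat ha).eventually hB⟩
  have hcw : IsCoboundedUnder (· ≤ ·) atTop w :=
    (isBoundedUnder_of_eventually_ge (a := 0)
      (Eventually.of_forall fun q => normSeq_nonneg n hc f _)).isCoboundedUnder_le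
  have hlim : Tendsto (fun m => u m - w m) atTop (𝓝 0) := by
    obtain ⟨B, hB⟩ := hbw
    rw [eventually_map] at hB
    have hratio : Tendsto (fun m : ℕ => ((a * (m / a) : ℕ) : ℝ) / (m : ℝ)) atTop (𝓝 1) := by
      refine tendsto_of_tendsto_of_tendsto_of_le_of_le' (g := fun m : ℕ => 1 - (a : ℝ) * (1 / (m : ℝ)))
        (h := fun _ => (1 : ℝ)) ?_ tendsto_const_nhds ?_ ?_
      · simpa using (tendsto_one_div_atTop_nhds_zero_nat.const_mul (a : ℝ)).const_sub (1 : ℝ)
      · filter_upwards [eventually_ge_atTop 1] with m hm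
        have hm0 : (0 : ℝ) < m := by exact_mod_cast hm
        have : (m : ℝ) ≤ ((a * (m / a) : ℕ) : ℝ) + a := by
          have := Nat.div_add_mod m a
          have := Nat.mod_lt m ha
          exact_mod_cast (by omega : m ≤ a * (m / a) + a)
        rw [le_div_iff₀ hm0, sub_mul, one_mul, mul_assoc, one_div_mul_cancel hm0.ne', mul_one]
        linarith
      · filter_upwards [eventually_ge_atTop 1] with m hm
        have hm0 : (0 : ℝ) < m := by exact_mod_cast hm
        rw [div_le_one hm0]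
        exact_mod_cast Nat.mul_div_le m a
    have hpow : Tendsto (fun m : ℕ => 1 - (((a * (m / a) : ℕ) : ℝ) / (m : ℝ)) ^ n) atTop (𝓝 0) := by
      simpa using (hratio.pow n).const_sub (1 : ℝ)
    have hsum : Tendsto (fun m : ℕ => normSeq n c e (m / a) +
        |B| * |1 - (((a * (m / a) : ℕ) : ℝ) / (m : ℝ)) ^ n|) atTop (𝓝 0) := by
      simpa using (he.comp (tendsto_div_atTop_nat ha)).add (hpow.abs.const_mul |B|)
    refine squeeze_zero_norm' ?_ hsum
    filter_upwards [eventually_ge_atTop a, hB] with m hm hwB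
    set q := m / a with hq
    have hq1 : 0 < q := Nat.div_pos hm ha
    have hm0 : (0 : ℝ) < m := by exact_mod_cast ha.trans_le hm
    have haq : (0 : ℝ) < ((a * q : ℕ) : ℝ) := by exact_mod_cast Nat.mul_pos ha hq1
    obtain ⟨h1, h2⟩ := h (m % a) (Nat.mod_lt m ha) q
    rw [hq, Nat.div_add_mod m a, ← hq] at h1 h2
    have hw : w m = (f (a * q) : ℝ) * c / ((a * q : ℕ) : ℝ) ^ n := rfl
    have hw0 : 0 ≤ w m := normSeq_nonneg n hc f _
    have e1 : u m - w m = ((f m : ℝ) - f (a * q)) * c / (m : ℝ) ^ n -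
        w m * (1 - (((a * q : ℕ) : ℝ) / (m : ℝ)) ^ n) := by
      rw [hw, hu, normSeq, div_pow]
      field_simp
      ring
    rw [e1, Real.norm_eq_abs]
    refine (abs_sub _ _).trans (add_le_add ?_ ?_)
    · rw [abs_div, abs_mul, abs_of_nonneg hc, abs_of_nonneg (pow_nonneg hm0.le n), normSeq]
      refine div_le_div₀ (by positivity) (mul_le_mul_of_nonneg_right ?_ hc) (by positivity)
        (pow_le_pow_left₀ (by positivity) (by exact_mod_cast Nat.div_le_self m a) n)
      have h1' : (f m : ℝ) ≤ f (a * q) + e q := by exact_mod_cast h1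
      have h2' : (f (a * q) : ℝ) ≤ f m + e q := by exact_mod_cast h2
      rw [abs_le]
      constructor <;> linarith
    · rw [abs_mul, abs_of_nonneg hw0]
      exact mul_le_mul_of_nonneg_right (hwB.trans (le_abs_self B)) (abs_nonneg _)
  have hmain := limsup_eq_of_sub (normSeq_bounded hc hf) (normSeq_isCobounded n hc f) hbw hcw hlim
  have hgw : limsup w atTop = limsup g atTop := by
    show limsup (g ∘ fun m : ℕ => m / a) atTop = _
    rw [limsup_comp, map_div_atTop ha]
  rw [show normSeq n c (fun q => f (a * q)) = (fun x : ℝ => (a : ℝ) ^ n * x) ∘ g from funext hgq]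
  have hm : Monotone fun x : ℝ => (a : ℝ) ^ n * x := fun x y hxy =>
    mul_le_mul_of_nonneg_left hxy (pow_nonneg (Nat.cast_nonneg a) n)
  rw [← hm.map_limsup_of_continuousAt g (continuous_const_mul _).continuousAt hbg hcg, ← hgw, ← hmain]

end Groth.Agent.VarGrow31
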