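import Groth.Agent.VarGrow31.GenRank
import Groth.Agent.VarGrow31.Asymp
import Groth.Agent.VarGrow31.Residue
import Groth.Agent.H23.PicMul

/-!
# Asymptotic cohomology of powers
-/

noncomputable section

set_option linter.style.haveILetI false
set_option linter.unusedSectionVars false
set_option backward.isDefEq.respectTransparency false
set_option backward.isDefEq.respectTransparency.types false

universe u

open CategoryTheory CategoryTheory.Limits AlgebraicGeometry TopologicalSpace Filter Topology

namespace Groth.Agent.VarGrow31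

open Groth.Agent
open scoped Groth.Agent.H23.PicMul

/-- The generic rank of an invertible module. -/
theorem finrank_stalk_invertible {X : Scheme.{u}} {L : X.Modules} (hL : PicF.IsInvertible L) (x : X) :
    Module.finrank (X.presheaf.stalk x) (L.presheaf.stalk x) = 1 := by
  obtain ⟨U, hU, e, he⟩ := InvX.exists_frame hL x
  haveI : Nontrivial (X.presheaf.stalk x) := inferInstance
  rw [← (LinearEquiv.ofBijective (LinearMap.toSpanSingleton (X.presheaf.stalk x) (L.presheaf.stalk x)
    (L.presheaf.germ U x hU e)) (he.germ_bijective hU)).finrank_eq, Module.finrank_self]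

variable (k : Type u) [Field k] {X : Scheme.{u}} [X.Over (Spec (CommRingCat.of k))]
  [IsProper (X ↘ Spec (CommRingCat.of k))]

/-- The dimensions of the cohomology of the powers. -/
def hp (L : X.Modules) (i : ℕ) : ℕ → ℕ := fun m => Module.finrank k (Coh.HH X (CohB1.tensorPow L m) i)

theorem hp_eq_hd (L : X.Modules) (i m : ℕ) : hp k L i m = hd k L (Coh.structureModule X) i m :=
  (CurveCohLib.hhEquiv (k := k) (CurveTensor.structureTensorIso (CohB1.tensorPow L m)) i).symm.finrank_eq

theorem hhat_eq (n i : ℕ) (L : X.Modules) :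
    W4c5asymptcohfn.hhat k X n i L = limsup (normSeq n (n.factorial : ℝ) (hp k L i)) atTop := rfl

theorem exists_bound_hp {L : X.Modules} (hL : PicF.IsInvertible L) {n : ℕ}
    (hn : topologicalKrullDim X ≤ n) (i : ℕ) : ∃ C : ℕ, ∀ m, hp k L i m ≤ C * (m + 1) ^ n := by
  haveI := CurveCohLib.isNoetherian_of_proper (k := k) (X := X)
  obtain ⟨C, hC⟩ := small_top k hL hn QCoh.isCoh_structureModule' i
  exact ⟨C, fun m => (hp_eq_hd k L i m).trans_le (hC m)⟩

variable [IsIntegral X] {L : X.Modules} (hL : PicF.IsInvertible L) {n : ℕ} (hn : topologicalKrullDim X = n)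
include hL hn

theorem hhatF_eq_rank_mul {F : X.Modules} (hF : Coh.IsCoh F) {r : ℕ}
    (hr : Module.finrank (X.presheaf.stalk (genericPoint X)) (F.presheaf.stalk (genericPoint X)) = r) (i : ℕ) :
    W4c5asymptcohfn.hhatF k X n i F L = (r : ℝ) * W4c5asymptcohfn.hhat k X n i L := by
  obtain ⟨g, hg, e⟩ := exists_error_rank k hL hn hF hr i
  obtain ⟨C, hC⟩ := exists_bound_hp k hL hn.le i
  rw [hhatF_eq, hhat_eq, ← limsup_normSeq_const_mul (Nat.cast_nonneg _) hC]
  exact limsup_eq_of_error (small_top k hL hn.le hF i) hg e _ (Nat.cast_nonneg _)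

omit hn in
theorem nonempty_pow_decomp (a q j : ℕ) :
    Nonempty (ShStab.twist X (CohB1.tensorPow L a) (CohB1.tensorPow L j) q ≅ CohB1.tensorPow L (a * q + j)) := by
  rw [← H23.PicMul.cl_eq_iff]
  show PicF.cl (CohB1.tensorMod (CohB1.tensorPow L j) (CohB1.tensorPow (CohB1.tensorPow L a) q)) = _
  rw [H23.PicMul.cl_tensor, H23.PicMul.cl_tensorPow, H23.PicMul.cl_tensorPow, H23.PicMul.cl_tensorPow,
    H23.PicMul.cl_tensorPow, ← pow_mul, ← pow_add, add_comm]

/-- The cohomology in each residue class agrees up to small error with that of the multiples. -/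
theorem exists_error_residue {a : ℕ} (ha : 0 < a) (i : ℕ) :
    ∃ e, GrowLt n e ∧ ∀ j < a, ∀ q,
      hp k L i (a * q + j) ≤ hp k L i (a * q) + e q ∧ hp k L i (a * q) ≤ hp k L i (a * q + j) + e q := by
  classical
  haveI := CurveCohLib.isNoetherian_of_proper (k := k) (X := X)
  have hLa := H23.PicMul.isInvertible_tensorPow hL a
  have hrank : ∀ j, Module.finrank (X.presheaf.stalk (genericPoint X))
      ((CohB1.tensorPow L j).presheaf.stalk (genericPoint X)) = 1 := fun j =>
    finrank_stalk_invertible (H23.PicMul.isInvertible_tensorPow hL j) _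
  choose g hg e using fun j : ℕ =>
    exists_error_rank k hLa hn (AmpleVan.isCoh_invertible (H23.PicMul.isInvertible_tensorPow hL j)) (hrank j) i
  have hj : ∀ j q, hd k (CohB1.tensorPow L a) (CohB1.tensorPow L j) i q = hp k L i (a * q + j) := fun j q => by
    obtain ⟨φ⟩ := nonempty_pow_decomp hL a q j
    exact (CurveCohLib.hhEquiv (k := k) φ i).finrank_eq
  have h0 : ∀ q, Module.finrank k (Coh.HH X (CohB1.tensorPow (CohB1.tensorPow L a) q) i) = hp k L i (a * q) := fun q => by
    obtain ⟨φ⟩ : Nonempty (CohB1.tensorPow (CohB1.tensorPow L a) q ≅ CohB1.tensorPow L (a * q)) := by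
      rw [← H23.PicMul.cl_eq_iff, H23.PicMul.cl_tensorPow, H23.PicMul.cl_tensorPow, H23.PicMul.cl_tensorPow, pow_mul]
    exact (CurveCohLib.hhEquiv (k := k) φ i).finrank_eq
  have hsum : ∀ s : Finset ℕ, GrowLt n (fun q => ∑ j ∈ s, g j q) := fun s => by
    induction s using Finset.induction with
    | empty => simpa using growLt_zero n
    | insert j t hj ih => simpa [Finset.sum_insert hj] using (hg j).add ih
  refine ⟨fun q => ∑ j ∈ Finset.range a, g j q, hsum _, fun j hja q => ?_⟩
  have h1 := e j q
  rw [hj j q, h0 q, one_mul] at h1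
  have := Finset.single_le_sum (f := fun j => g j q) (fun _ _ => Nat.zero_le _) (Finset.mem_range.2 hja)
  dsimp only at this ⊢
  omega

theorem hp_pow (a i : ℕ) : hp k (CohB1.tensorPow L a) i = fun q => hp k L i (a * q) := funext fun q => by
  obtain ⟨φ⟩ : Nonempty (CohB1.tensorPow (CohB1.tensorPow L a) q ≅ CohB1.tensorPow L (a * q)) := by
    rw [← H23.PicMul.cl_eq_iff, H23.PicMul.cl_tensorPow, H23.PicMul.cl_tensorPow, H23.PicMul.cl_tensorPow, pow_mul]
  exact (CurveCohLib.hhEquiv (k := k) φ i).finrank_eq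

/-- Homogeneity of the upper limit, for any normalising constant. -/
theorem limsup_hp_pow {a : ℕ} (ha : 0 < a) (i : ℕ) {c : ℝ} (hc : 0 ≤ c) :
    limsup (normSeq n c (hp k (CohB1.tensorPow L a) i)) atTop =
      (a : ℝ) ^ n * limsup (normSeq n c (hp k L i)) atTop := by
  obtain ⟨C, hC⟩ := exists_bound_hp k hL hn.le i
  obtain ⟨e, he, h⟩ := exists_error_residue k hL hn ha i
  rw [hp_pow k hL hn]
  exact limsup_normSeq_multiples hc ha hC e ((exists_bound_succ he).2 c) h

end Groth.Agent.VarGrow31
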