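import Groth.Agent.VarGrow31.Volume
import Groth.Agent.VarNef31.SectionsMono
import Groth.Agent.VBCurvesLib.Embed
import Groth.Agent.AVDegPoly.Growth

/-!
# Big invertible modules
-/

noncomputable section

set_option linter.style.haveILetI false
set_option linter.unusedSectionVars false
set_option backward.isDefEq.respectTransparency false
set_option backward.isDefEq.respectTransparency.types false

universe u

open CategoryTheory CategoryTheory.Limits AlgebraicGeometry TopologicalSpace Filter Topology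

namespace Groth.Agent.VarGrow31

open Groth.Agent
open scoped Groth.Agent.H23.PicMul

variable (k : Type u) [Field k] {X : Scheme.{u}} [X.Over (Spec (CommRingCat.of k))]
  [IsProper (X ↘ Spec (CommRingCat.of k))] [IsIntegral X]

omit [IsProper (X ↘ Spec (CommRingCat.of k))] in
/-- The sections of some multiples of an ample module grow like the full power. -/
theorem exists_lower_ample [IsProper (X ↘ Spec (CommRingCat.of k))] {n : ℕ}
    (hn : topologicalKrullDim X = n) {A : X.Modules} (hA : CohB1.IsAmple A) :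
    ∃ b, 0 < b ∧ ∀ q, (q + 1) ^ n ≤ hp k A 0 (b * q) := by
  let X' : Over (Spec (CommRingCat.of k)) := Over.mk (X ↘ Spec (CommRingCat.of k))
  haveI : IsProper X'.hom := inferInstanceAs (IsProper (X ↘ Spec (CommRingCat.of k)))
  haveI : IsIntegral X'.left := inferInstanceAs (IsIntegral X)
  haveI : CompactSpace X := hA.2.1
  haveI : IsFinite (𝟙 X' : X' ⟶ X').left := inferInstanceAs (IsFinite (𝟙 X))
  haveI : Surjective (𝟙 X' : X' ⟶ X').left := inferInstanceAs (Surjective (𝟙 X))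
  haveI : Flat (𝟙 X' : X' ⟶ X').left := inferInstanceAs (Flat (𝟙 X))
  haveI : LocallyOfFinitePresentation (𝟙 X' : X' ⟶ X').left :=
    inferInstanceAs (LocallyOfFinitePresentation (𝟙 X))
  obtain ⟨a, e, E, c, ha, hc, hlo, -, -⟩ :=
    AVDegPoly.exists_growth (A := X') (B := X') hn hn (𝟙 X') (L := A) hA (genericPoint X)
  refine ⟨a * c, Nat.mul_pos ha hc, fun q => ?_⟩
  rw [mul_assoc]
  exact (hlo q).trans (congrFun (hp_pow k hA.1 hn a 0) (c * q)).le

variable {L : X.Modules} {n : ℕ}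

/-- Full growth along the multiples of some `a` gives full growth. -/
theorem big_of_multiples (hL : PicF.IsInvertible L) (hn : topologicalKrullDim X = n) {a : ℕ} (ha : 0 < a)
    (h : ∀ q, (q + 1) ^ n ≤ hp k L 0 (a * q)) :
    ∃ c : ℝ, 0 < c ∧ ∀ᶠ m : ℕ in atTop, c * (m : ℝ) ^ n < (hp k L 0 m : ℝ) := by
  obtain ⟨e, he, hres⟩ := exists_error_residue k hL hn ha 0
  obtain ⟨Q, hQ⟩ : ∃ Q, ∀ q, Q ≤ q → 2 * e q < (q + 1) ^ n := by
    cases n with
    | zero => exact ⟨0, fun q _ => by simp [he q]⟩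
    | succ d =>
      obtain ⟨C, hC⟩ := he
      refine ⟨2 * C, fun q hq => lt_of_le_of_lt (Nat.mul_le_mul_left 2 (hC q)) ?_⟩
      rw [pow_succ, ← mul_assoc, mul_comm ((q + 1) ^ d)]
      exact Nat.mul_lt_mul_of_pos_right (by omega) (pow_pos (Nat.succ_pos q) d)
  refine ⟨1 / (2 * (a : ℝ) ^ n), by positivity, ?_⟩
  filter_upwards [(tendsto_div_atTop_nat ha).eventually (eventually_ge_atTop Q)] with m hm
  set q := m / a with hq
  have h1 := (hres (m % a) (Nat.mod_lt m ha) q).2
  rw [hq, Nat.div_add_mod m a, ← hq] at h1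
  have h2 : (q + 1) ^ n < 2 * hp k L 0 m := by
    have := hQ q hm
    have := h q
    omega
  have h3 : m ^ n ≤ a ^ n * (q + 1) ^ n := by
    rw [← mul_pow]
    refine Nat.pow_le_pow_left ?_ n
    have h7 := Nat.div_add_mod m a
    rw [← hq] at h7
    have := Nat.mod_lt m ha
    rw [mul_add, mul_one]
    omega
  have h4 : ((q + 1 : ℕ) : ℝ) ^ n < 2 * (hp k L 0 m : ℝ) := by exact_mod_cast h2
  have h5 : (m : ℝ) ^ n ≤ (a : ℝ) ^ n * ((q + 1 : ℕ) : ℝ) ^ n := by exact_mod_cast h3
  rw [div_mul_eq_mul_div, one_mul, div_lt_iff₀ (by positivity)]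
  have h6 := mul_lt_mul_of_pos_left h4 (show (0 : ℝ) < (a : ℝ) ^ n by positivity)
  nlinarith

include k in
theorem tensorPow_mono {A B : X.Modules} (hA : PicF.IsInvertible A) (hB : PicF.IsInvertible B) (t : A ⟶ B) [Mono t]
    (q : ℕ) : ∃ t' : CohB1.tensorPow A q ⟶ CohB1.tensorPow B q, Mono t' := by
  induction q with
  | zero => exact ⟨𝟙 _, inferInstance⟩
  | succ q ih =>
    obtain ⟨t', ht'⟩ := ih
    exact VarNef31.exists_mono_tensorMod (VarNef31.finLocFree_of_inv (InvX.isInvertible_tensorPow hB q))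
      (VarNef31.finLocFree_of_inv hA) t' t

/-- A power receiving an ample module makes big. -/
theorem big_of_mono (hL : PicF.IsInvertible L) (hn : topologicalKrullDim X = n) {A : X.Modules}
    (hA : CohB1.IsAmple A) {m₀ : ℕ} (hm₀ : 0 < m₀) (t : A ⟶ CohB1.tensorPow L m₀) [Mono t] :
    ∃ c : ℝ, 0 < c ∧ ∀ᶠ m : ℕ in atTop, c * (m : ℝ) ^ n < (hp k L 0 m : ℝ) := by
  haveI := CurveCohLib.isNoetherian_of_proper (k := k) (X := X)
  obtain ⟨b, hb, hlo⟩ := exists_lower_ample k hn hA
  have hP := H23.PicMul.isInvertible_tensorPow hL m₀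
  refine big_of_multiples k hL hn (Nat.mul_pos hm₀ hb) fun q => (hlo q).trans ?_
  obtain ⟨t', ht'⟩ := tensorPow_mono k hA.1 hP t (b * q)
  rw [mul_assoc]
  exact (VarNef31.finrank_h0_le_of_mono k
    (AmpleVan.isCoh_invertible (H23.PicMul.isInvertible_tensorPow hP (b * q))) t').trans
    (congrFun (hp_pow k hL hn m₀ 0) (b * q)).le

/-- If the sections of the powers do not grow slower than the full power, the twists by any invertible
module have sections. -/
theorem exists_pos_twist (hL : PicF.IsInvertible L) (hn : topologicalKrullDim X = n) {B : X.Modules}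
    (hB : PicF.IsInvertible B) {δ : ℝ} (hδ : 0 < δ)
    (h : ∃ᶠ m : ℕ in atTop, δ * (m : ℝ) ^ n < (hp k L 0 m : ℝ)) :
    ∃ m, 0 < m ∧ Nontrivial (Coh.HH X (CohB1.tensorMod B (CohB1.tensorPow L m)) 0) := by
  haveI := CurveCohLib.isNoetherian_of_proper (k := k) (X := X)
  obtain ⟨g, hg, e⟩ := exists_error_rank k hL hn (AmpleVan.isCoh_invertible hB)
    (finrank_stalk_invertible hB _) 0
  have hsmall : ∀ᶠ m : ℕ in atTop, (g m : ℝ) < δ * (m : ℝ) ^ n := by
    filter_upwards [((exists_bound_succ hg).2 1).eventually (gt_mem_nhds hδ), eventually_ge_atTop 1]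
      with m hm hm1
    have hm0 : (0 : ℝ) < (m : ℝ) ^ n := pow_pos (by exact_mod_cast hm1) n
    rw [normSeq, mul_one, div_lt_iff₀ hm0] at hm
    exact hm
  obtain ⟨m, ⟨hbig, hsm⟩, hm1⟩ := ((h.and_eventually hsmall).and_eventually (eventually_ge_atTop 1)).exists
  refine ⟨m, hm1, Module.nontrivial_of_finrank_pos (R := k) ?_⟩
  have h1 : g m < hp k L 0 m := by exact_mod_cast hsm.trans hbig
  have h2 := (e m).2
  rw [one_mul] at h2
  show 0 < hd k L B 0 m
  have h3 : Module.finrank k (Coh.HH X (CohB1.tensorPow L m) 0) = hp k L 0 m := rfl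
  omega

/-- A section of `A' ⊗ L^m` gives a monomorphism `A → L^m`. -/
theorem exists_mono_of_section (hL : PicF.IsInvertible L) {A A' : X.Modules} (hA : PicF.IsInvertible A)
    (hA' : PicF.IsInvertible A') (e : CohB1.tensorMod A' A ≅ Coh.structureModule X) {m : ℕ}
    (h : Nontrivial (Coh.HH X (CohB1.tensorMod A' (CohB1.tensorPow L m)) 0)) :
    ∃ t : A ⟶ CohB1.tensorPow L m, Mono t := by
  let P := CohB1.tensorMod A' (CohB1.tensorPow L m)
  have hP : PicF.IsInvertible P := H23.PicMul.isInvertible_tensor hA' (H23.PicMul.isInvertible_tensorPow hL m)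
  obtain ⟨x, y, hxy⟩ := h
  obtain ⟨s, hs⟩ : ∃ s : Coh.structureModule X ⟶ P, s ≠ 0 := by
    by_contra! hall
    exact hxy ((VBCurvesLib.homEquivHH P).injective ((hall _).trans (hall _).symm))
  haveI : Mono s := InvEnd.mono_of_ne_zero CurveDeg.isInvertible_structureModule hP s hs
  haveI := VarNef31.mono_tensor_left (VarNef31.finLocFree_of_inv hA) s
  obtain ⟨φ⟩ : Nonempty (CohB1.tensorMod A P ≅ CohB1.tensorPow L m) := by
    have he : PicF.cl (CohB1.tensorMod A' A) = PicF.cl (Coh.structureModule X) :=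
      H23.PicMul.cl_eq_iff.2 ⟨e⟩
    rw [H23.PicMul.cl_tensor, mul_comm] at he
    rw [← H23.PicMul.cl_eq_iff, H23.PicMul.cl_tensor, H23.PicMul.cl_tensor, ← mul_assoc, he,
      ← H23.PicMul.one_def, one_mul]
  exact ⟨(KFlatLib.tensorUnitIso A).inv ≫ (DCoh.tensorBi.obj A).map s ≫ φ.hom, inferInstance⟩

/-- Positivity of the upper limit gives a power receiving a given ample module. -/
theorem exists_mono_of_frequently (hL : PicF.IsInvertible L) (hn : topologicalKrullDim X = n)
    {A : X.Modules} (hA : PicF.IsInvertible A) {δ : ℝ} (hδ : 0 < δ)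
    (h : ∃ᶠ m : ℕ in atTop, δ * (m : ℝ) ^ n < (hp k L 0 m : ℝ)) :
    ∃ m, 0 < m ∧ ∃ t : A ⟶ CohB1.tensorPow L m, Mono t := by
  obtain ⟨A', hA', ⟨e⟩⟩ := H23.PicInv.exists_inverse hA
  obtain ⟨c⟩ := H23.PicMul.comm A' A
  obtain ⟨m, hm, hnt⟩ := exists_pos_twist k hL hn hA' hδ h
  exact ⟨m, hm, exists_mono_of_section hL hA hA' (c ≪≫ e) hnt⟩

theorem frequently_of_pos (hn : topologicalKrullDim X = n) {c : ℝ} (hc : 0 < c)
    (h : 0 < limsup (normSeq n c (hp k L 0)) atTop) :
    ∃ δ, 0 < δ ∧ ∃ᶠ m : ℕ in atTop, δ * (m : ℝ) ^ n < (hp k L 0 m : ℝ) := by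
  obtain ⟨η, hη0, hη⟩ := exists_between h
  refine ⟨η / c, div_pos hη0 hc, ?_⟩
  refine ((frequently_lt_of_lt_limsup (normSeq_isCobounded n hc.le _) hη).and_eventually
    (eventually_ge_atTop 1)).mono fun m hm => ?_
  have hm0 : (0 : ℝ) < (m : ℝ) ^ n := pow_pos (by exact_mod_cast hm.2) n
  have h1 := hm.1
  rw [normSeq, lt_div_iff₀ hm0] at h1
  rw [div_mul_eq_mul_div, div_lt_iff₀ hc]
  exact h1

/-- A positive upper limit is as good as a positive lower limit. -/
theorem big_of_frequently (hL : PicF.IsInvertible L) (hn : topologicalKrullDim X = n) {A : X.Modules}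
    (hA : CohB1.IsAmple A) {δ : ℝ} (hδ : 0 < δ)
    (h : ∃ᶠ m : ℕ in atTop, δ * (m : ℝ) ^ n < (hp k L 0 m : ℝ)) :
    ∃ c : ℝ, 0 < c ∧ ∀ᶠ m : ℕ in atTop, c * (m : ℝ) ^ n < (hp k L 0 m : ℝ) := by
  obtain ⟨m, hm, t, ht⟩ := exists_mono_of_frequently k hL hn hA.1 hδ h
  exact big_of_mono k hL hn hA hm t

end Groth.Agent.VarGrow31
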