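import Groth.Agent.Lib.CurveDualPrep
import Groth.Agent.VBCurvesLib.WeilFinite

/-!
# Cohomology of finite direct sums on proper schemes
(the argument of `VBCurvesLib.finrank_HH_biproduct`, without smoothness)
-/

set_option linter.style.haveILetI false
set_option linter.unusedSectionVars false
set_option backward.isDefEq.respectTransparency false
set_option backward.isDefEq.respectTransparency.types false
set_option synthInstance.maxHeartbeats 100000
set_option maxHeartbeats 1000000

universe u

open CategoryTheory CategoryTheory.Limits AlgebraicGeometry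
open Groth.Agent.PnCoh.Finite (mapLin)

namespace Groth.Agent.VarGrow31

open Groth.Agent Groth.Agent.CurveDuality

variable {X : Scheme.{u}} (k : Type u) [Field k] [X.Over (Spec (CommRingCat.of k))]
  [IsProper (X ↘ Spec (CommRingCat.of k))]

theorem mapLin_sum {M N : X.Modules} {ι : Type} (s : Finset ι) (f : ι → (M ⟶ N)) (n : ℕ)
    (x : Coh.HH X M n) : mapLin k (∑ i ∈ s, f i) n x = ∑ i ∈ s, mapLin k (f i) n x := by
  classical
  induction s using Finset.induction with
  | empty => simp [mapLin_zero]
  | insert a s ha ih => rw [Finset.sum_insert ha, Finset.sum_insert ha, mapLin_add, ih]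

/-- Cohomology of a finite direct sum. -/
theorem finrank_HH_biproduct {ι : Type} [Fintype ι] (M : ι → X.Modules) (hM : ∀ i, Coh.IsCoh (M i))
    (n : ℕ) : Module.finrank k (Coh.HH X (⨁ M) n) = ∑ i, Module.finrank k (Coh.HH X (M i) n) := by
  classical
  haveI := CurveCohLib.isNoetherian_of_proper (k := k) (X := X)
  haveI := fun i => S0002.result k X (M i) (hM i) n
  let a : Coh.HH X (⨁ M) n →ₗ[k] ((i : ι) → Coh.HH X (M i) n) :=
    LinearMap.pi fun i => mapLin k (biproduct.π M i) n
  let b : ((i : ι) → Coh.HH X (M i) n) →ₗ[k] Coh.HH X (⨁ M) n :=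
    ∑ i, (mapLin k (biproduct.ι M i) n).comp (LinearMap.proj i)
  have h1 : a.comp b = LinearMap.id := by
    refine LinearMap.pi_ext fun i x => funext fun j => ?_
    simp only [LinearMap.comp_apply, LinearMap.id_apply, a, b, LinearMap.pi_apply, LinearMap.sum_apply,
      LinearMap.proj_apply, map_sum, FFun.mapLin_comp]
    rw [Finset.sum_eq_single i]
    · rw [Pi.single_eq_same]
      by_cases h : i = j
      · subst h
        rw [biproduct.ι_π_self, mapLin_id, Pi.single_eq_same]
      · rw [biproduct.ι_π_ne _ h, mapLin_zero, Pi.single_eq_of_ne (Ne.symm h)]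
    · intro l _ hl
      rw [Pi.single_eq_of_ne hl, map_zero]
    · exact fun h => absurd (Finset.mem_univ i) h
  have h2 : b.comp a = LinearMap.id := LinearMap.ext fun x => by
    simp only [LinearMap.comp_apply, LinearMap.id_apply, a, b, LinearMap.sum_apply, LinearMap.proj_apply,
      LinearMap.pi_apply, FFun.mapLin_comp]
    rw [← mapLin_sum, biproduct.total, mapLin_id]
  rw [(LinearEquiv.ofLinear a b h1 h2).finrank_eq, Module.finrank_pi_fintype]

theorem finrank_HH_coproduct {ι : Type} [Fintype ι] (M : ι → X.Modules) (hM : ∀ i, Coh.IsCoh (M i))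
    (n : ℕ) : Module.finrank k (Coh.HH X (∐ M) n) = ∑ i, Module.finrank k (Coh.HH X (M i) n) := by
  rw [← finrank_HH_biproduct k M hM n]
  exact (CurveCohLib.hhEquiv (k := k) (biproduct.isoCoproduct M).symm n).finrank_eq

include k in
theorem isCoh_coproduct {ι : Type} [Fintype ι] (M : ι → X.Modules) (hM : ∀ i, Coh.IsCoh (M i)) :
    Coh.IsCoh (∐ M) := by
  haveI := CurveCohLib.isNoetherian_of_proper (k := k) (X := X)
  have h := QCoh.isCoh_biproduct (fun x : ULift.{u} ι => M x.down) fun x => hM x.down
  let e : (⨁ fun x : ULift.{u} ι => M x.down) ≅ ∐ M :=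
    biproduct.whiskerEquiv (f := fun x : ULift.{u} ι => M x.down) (g := M) Equiv.ulift (fun _ => Iso.refl _) ≪≫
      biproduct.isoCoproduct M
  have hq := (QCoh.isQCoh_iff_iso e).1 h.1
  exact ⟨hq, (QCoh.isCoh_of_epi e.hom h hq).2⟩

end Groth.Agent.VarGrow31
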