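import Groth.Agent.VarGrow31.Basic
import Groth.Agent.KFlatLib.Perfect.LocFreeLocus
import Groth.Agent.VarGrow31.DirectSum
import Groth.Agent.QCoh.Stalk
import Groth.Agent.ExistEasy.Setup

/-!
# Cohomology of twists and generic rank
-/

noncomputable section

set_option linter.style.haveILetI false
set_option linter.unusedSectionVars false
set_option backward.isDefEq.respectTransparency false
set_option backward.isDefEq.respectTransparency.types false

universe u

open CategoryTheory CategoryTheory.Limits AlgebraicGeometry TopologicalSpace Opposite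

namespace Groth.Agent.VarGrow31

open Groth.Agent

variable {X : Scheme.{u}} [IsIntegral X]

/-- A coherent module of generic rank `r` and the free module of rank `r` map to a common coherent
module by maps bijective at the generic point. -/
theorem exists_generic_cospan [IsNoetherian X] {F : X.Modules} (hF : Coh.IsCoh F) {r : ℕ}
    (hr : Module.finrank (X.presheaf.stalk (genericPoint X)) (F.presheaf.stalk (genericPoint X)) = r) :
    ∃ (G : X.Modules) (φ : FlatMod.freeMod X r ⟶ G) (ψ : F ⟶ G), Coh.IsCoh G ∧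
      IsIso ((DerSch.stalkFunctor X (genericPoint X)).map φ) ∧
      IsIso ((DerSch.stalkFunctor X (genericPoint X)).map ψ) := by
  classical
  obtain ⟨U, hU, hη⟩ := QCoh.exists_affine_mem (genericPoint X)
  set η := genericPoint X
  let S := DerSch.stalkFunctor X η
  let Q := (Scheme.Modules.pushforward U.ι).obj (F.restrict U.ι)
  have hQ : Coh.IsQCoh Q := QCoh.isQCoh_pushforward U.ι (QCoh.isQCoh_restrict U.ι hF.1)
  letI := (CurveBundle.isField_stalk_generic (X := X)).toField
  haveI := CurveBundle.finite_stalk_of_coh hF η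
  let b : Module.Basis (Fin r) (X.presheaf.stalk η) (F.presheaf.stalk η) :=
    Module.finBasisOfFinrankEq _ _ hr
  letI := QCoh.stalkModule F hη
  haveI := QCoh.isLocalizedModule_germLin hF.1 hU hη
  have hdenom : ∀ j, ∃ (m : Γ(F, U)) (c : X.presheaf.stalk η), IsUnit c ∧
      F.presheaf.germ U η hη m = c • b j := fun j => by
    obtain ⟨⟨m, s⟩, hms⟩ := IsLocalizedModule.surj (hU.primeIdealOf ⟨η, hη⟩).asIdeal.primeCompl
      (QCoh.germLin F hη) (b j)
    letI := QCoh.stalkAlg (X := X) hη
    haveI : IsLocalization.AtPrime (X.presheaf.stalk η) (hU.primeIdealOf ⟨η, hη⟩).asIdeal :=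
      QCoh.isLocalization_stalk' hU hη
    exact ⟨m, X.presheaf.germ U η hη (s : Γ(X, U)),
      IsLocalization.map_units (X.presheaf.stalk η) s, hms.symm⟩
  choose v c hc hv using hdenom
  have hT : U.ι ''ᵁ (U.ι ⁻¹ᵁ (⊤ : X.Opens)) ≤ U := by
    rw [U.ι.image_preimage_eq_opensRange_inf, Scheme.Opens.opensRange_ι]
    exact inf_le_left
  let ρ := Snapper.resMap U F
  let t : Fin r → Γ(Q, ⊤) := fun j => F.presheaf.map (homOfLE hT).op (v j)
  let φ₀ : FlatMod.freeMod X r ⟶ Q := Sigma.desc fun j => QCoh.homOfTop (t j)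
  haveI hρ : IsIso (S.map ρ) := Snapper.isoOn_resMap U F η hη
  let one : S.obj (Coh.structureModule X) :=
    (Coh.structureModule X).presheaf.germ U η hη (show Γ(Coh.structureModule X, U) from (1 : Γ(X, U)))
  have hone : ∀ j, S.map (QCoh.homOfTop (t j)) one = S.map ρ (F.presheaf.germ U η hη (v j)) := fun j => by
    refine (TopCat.Presheaf.stalkFunctor_map_germ_apply U η hη
      ((Scheme.Modules.toPresheaf X).map (QCoh.homOfTop (t j))) _).trans ?_
    refine Eq.trans ?_ (TopCat.Presheaf.stalkFunctor_map_germ_apply U η hη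
      ((Scheme.Modules.toPresheaf X).map ρ) (v j)).symm
    refine congrArg (Q.presheaf.germ U η hη) ?_
    refine (QCoh.homOfTop_app (P := Q) (t j) (1 : Γ(X, U))).trans ((one_smul _ _).trans ?_)
    show _ = ((Scheme.Modules.restrictAdjunction U.ι).unit.app F).app U (v j)
    rw [Scheme.Modules.restrictAdjunction_unit_app_app]
    exact (QCoh.push_restrict_map U F (homOfLE le_top) (t j)).trans (QCoh.map_map (M := F) _ _ (v j))
  have hρb : Function.Bijective (S.map ρ) := (ConcreteCategory.isIso_iff_bijective _).1 inferInstance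
  have hsurj : Function.Surjective (S.map φ₀).hom := by
    rw [← LinearMap.range_eq_top, eq_top_iff]
    rintro q -
    obtain ⟨p, rfl⟩ := hρb.2 q
    have hp : p ∈ Submodule.span (X.presheaf.stalk η) (Set.range b) := b.span_eq ▸ Submodule.mem_top
    induction hp using Submodule.span_induction with
    | mem _ h =>
      obtain ⟨j, rfl⟩ := h
      refine ⟨((hc j).unit⁻¹ : (X.presheaf.stalk η)ˣ).1 •
        S.map (Sigma.ι (fun _ : Fin r => Coh.structureModule X) j) one, ?_⟩
      have h2 : S.map φ₀ (S.map (Sigma.ι (fun _ : Fin r => Coh.structureModule X) j) one) =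
          S.map ρ (F.presheaf.germ U η hη (v j)) := by
        rw [← ModuleCat.comp_apply, ← S.map_comp, Sigma.ι_desc]
        exact hone j
      rw [map_smul, show (S.map φ₀).hom _ = S.map φ₀ _ from rfl, h2, hv j,
        ← map_smul (S.map ρ).hom, smul_smul, IsUnit.val_inv_mul, one_smul]
    | zero => rw [map_zero]; exact zero_mem _
    | add _ _ _ _ h h' => rw [map_add]; exact add_mem h h'
    | smul a _ _ h => rw [map_smul]; exact Submodule.smul_mem _ a h
  obtain ⟨-, hfin, hrank⟩ := KFlatLib.finite_free_stalk_freeMod (U := X) η r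
  let eρ : F.presheaf.stalk η ≃ₗ[X.presheaf.stalk η] S.obj Q := LinearEquiv.ofBijective (S.map ρ).hom hρb
  haveI := hfin
  haveI : Module.Finite (X.presheaf.stalk η) (S.obj Q) := Module.Finite.equiv eρ
  have hφb : Function.Bijective (S.map φ₀).hom :=
    ⟨(LinearMap.injective_iff_surjective_of_finrank_eq_finrank
      (hrank.trans (hr.symm.trans eρ.finrank_eq))).2 hsurj, hsurj⟩
  haveI : IsIso (S.map φ₀) := (ConcreteCategory.isIso_iff_bijective _).2 hφb
  -- the coherent submodule generated by both images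
  have hFree : Coh.IsCoh (FlatMod.freeMod X r) := by
    have h := QCoh.isCoh_biproduct (fun _ : ULift.{u} (Fin r) => Coh.structureModule X)
      fun _ => QCoh.isCoh_structureModule'
    let e : (⨁ fun _ : ULift.{u} (Fin r) => Coh.structureModule X) ≅ FlatMod.freeMod X r :=
      biproduct.whiskerEquiv (f := fun _ : ULift.{u} (Fin r) => Coh.structureModule X)
        (g := fun _ : Fin r => Coh.structureModule X) Equiv.ulift (fun _ => Iso.refl _) ≪≫
        biproduct.isoCoproduct _
    exact QCoh.isCoh_of_epi e.hom h ((QCoh.isQCoh_iff_iso e).1 h.1)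
  have hP : Coh.IsCoh (FlatMod.freeMod X r ⊞ F) := ExistEasy.isCoh_biprod hFree hF
  let d := biprod.desc φ₀ ρ
  have hCd : Coh.IsQCoh (cokernel d) := QCoh.isQCoh_cokernel hP.1 hQ d
  let G := Abelian.image d
  have hG : Coh.IsCoh G :=
    QCoh.isCoh_of_epi (Abelian.factorThruImage d) hP (QCoh.isQCoh_kernel hQ hCd _)
  let φ : FlatMod.freeMod X r ⟶ G := biprod.inl ≫ Abelian.factorThruImage d
  let ψ : F ⟶ G := biprod.inr ≫ Abelian.factorThruImage d
  have key : ∀ {A : X.Modules} (α : A ⟶ G) (α₀ : A ⟶ Q), α ≫ Abelian.image.ι d = α₀ → IsIso (S.map α₀) →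
      IsIso (S.map α) := fun α α₀ h hi => by
    have h' : S.map α ≫ S.map (Abelian.image.ι d) = S.map α₀ := by rw [← S.map_comp, h]
    haveI : Mono (S.map (Abelian.image.ι d)) := inferInstance
    haveI := hi
    haveI : IsIso (S.map (Abelian.image.ι d)) := by
      haveI : Epi (S.map (Abelian.image.ι d)) := epi_of_epi_fac h'
      exact isIso_of_mono_of_epi _
    exact IsIso.of_isIso_fac_right h'
  exact ⟨G, φ, ψ, hG, key φ φ₀ (by rw [Category.assoc, Abelian.image.fac, biprod.inl_desc]) inferInstance,
    key ψ ρ (by rw [Category.assoc, Abelian.image.fac, biprod.inr_desc]) hρ⟩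

variable (k : Type u) [Field k] [X.Over (Spec (CommRingCat.of k))]
  [IsProper (X ↘ Spec (CommRingCat.of k))]

include k in
theorem small_of_iso_generic {L : X.Modules} (hL : PicF.IsInvertible L) {n : ℕ}
    (hn : topologicalKrullDim X = n) {A B : X.Modules} (hA : Coh.IsCoh A) (hB : Coh.IsCoh B) (φ : A ⟶ B)
    (h : IsIso ((DerSch.stalkFunctor X (genericPoint X)).map φ)) :
    Small k L (kernel φ) n ∧ Small k L (cokernel φ) n := by
  haveI := CurveCohLib.isNoetherian_of_proper (k := k) (X := X)
  have hsmall : ∀ M : X.Modules, Coh.IsCoh M → genericPoint X ∉ CohB1.support M → Small k L M n := by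
    intro M hM hη
    refine small_of_support k hL hM ?_
    rw [← hn]
    exact H23.TopDim.dim_lt_of_ssubset (fun h => by rw [hn] at h; exact ENat.natCast_ne_top n (WithBot.coe_injective (h : ((n : ℕ∞) : WithBot ℕ∞) = _)))
      (QCoh.isClosed_support_of_isFT hM.1 hM.2) fun he => hη (he ▸ trivial)
  haveI := h
  exact ⟨hsmall _ (QCoh.isCoh_kernel hA hB φ) (Snapper.notMem_support_kernel φ inferInstance),
    hsmall _ (QCoh.isCoh_cokernel hA.1 hB φ) (Snapper.notMem_support_cokernel φ inferInstance)⟩

/-- Up to a small error the twists of a coherent module of generic rank `r` have `r` times the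
cohomology of the powers. -/
theorem exists_error_rank {L : X.Modules} (hL : PicF.IsInvertible L) {n : ℕ}
    (hn : topologicalKrullDim X = n) {F : X.Modules} (hF : Coh.IsCoh F) {r : ℕ}
    (hr : Module.finrank (X.presheaf.stalk (genericPoint X)) (F.presheaf.stalk (genericPoint X)) = r) (i : ℕ) :
    ∃ g, GrowLt n g ∧ ∀ m,
      hd k L F i m ≤ r * Module.finrank k (Coh.HH X (CohB1.tensorPow L m) i) + g m ∧
      r * Module.finrank k (Coh.HH X (CohB1.tensorPow L m) i) ≤ hd k L F i m + g m := by
  haveI := CurveCohLib.isNoetherian_of_proper (k := k) (X := X)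
  obtain ⟨G, φ, ψ, hG, hφ, hψ⟩ := exists_generic_cospan hF hr
  have hFree : Coh.IsCoh (FlatMod.freeMod X r) :=
    isCoh_coproduct k _ fun _ => QCoh.isCoh_structureModule'
  obtain ⟨a, b⟩ := small_of_iso_generic k hL hn hFree hG φ hφ
  obtain ⟨a', b'⟩ := small_of_iso_generic k hL hn hF hG ψ hψ
  obtain ⟨g₁, hg₁, e₁⟩ := exists_error_of_small k hL hFree hG φ a b i
  obtain ⟨g₂, hg₂, e₂⟩ := exists_error_of_small k hL hF hG ψ a' b' i
  refine ⟨fun m => g₁ m + g₂ m, hg₁.add hg₂, fun m => ?_⟩
  have he : hd k L (FlatMod.freeMod X r) i m = r * Module.finrank k (Coh.HH X (CohB1.tensorPow L m) i) := by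
    let T := AmpleVan.tw (CohB1.tensorPow L m)
    haveI := AmpleVan.isEquivalence_tw (InvX.isInvertible_tensorPow hL m)
    let e : T.obj (FlatMod.freeMod X r) ≅ ∐ fun _ : Fin r => CohB1.tensorPow L m :=
      T.mapIso (biproduct.isoCoproduct _).symm ≪≫ T.mapBiproduct _ ≪≫ biproduct.isoCoproduct _ ≪≫
        Limits.Sigma.mapIso fun _ => CurveTensor.structureTensorIso _
    refine (CurveCohLib.hhEquiv (k := k) e i).finrank_eq.trans ?_
    rw [finrank_HH_coproduct k _
      (fun _ => AmpleVan.isCoh_invertible (InvX.isInvertible_tensorPow hL m)) i, Finset.sum_const,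
      Finset.card_univ, Fintype.card_fin, smul_eq_mul]
  have h1 := e₁ m
  have h2 := e₂ m
  rw [he] at h1
  dsimp only
  omega

end Groth.Agent.VarGrow31
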