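import Groth.Agent.VarInt.Pullback
import Groth.Agent.VarGrow31.GenRank
import Groth.Agent.VarGrow31.Volume
import Groth.Agent.VarNum31.Embed
import Groth.Agent.InvX.GenLocusPull

/-!
# Growth of cohomology along pull-backs
-/

noncomputable section

set_option linter.style.haveILetI false
set_option linter.unusedSectionVars false
set_option backward.isDefEq.respectTransparency false
set_option backward.isDefEq.respectTransparency.types false

universe u

open CategoryTheory CategoryTheory.Limits AlgebraicGeometry TopologicalSpace Opposite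
open Groth.Agent.PnCoh Groth.Agent.PnCoh.Chow

namespace Groth.Agent.VarGrow31

open Groth.Agent Groth.Agent.H23.PicMul Groth.Agent.VarInt

variable {X X' : Scheme.{u}}

section Push

variable {k : Type u} [Field k] [X.Over (Spec (CommRingCat.of k))] [X'.Over (Spec (CommRingCat.of k))]
  [IsProper (X ↘ Spec (CommRingCat.of k))]

/-- For high degree, twists push forward without change of cohomology. -/
theorem exists_push_twist {N₀ : ℕ} (g : X' ⟶ X) [IsProper g]
    (hg : g ≫ (X ↘ Spec (CommRingCat.of k)) = X' ↘ Spec (CommRingCat.of k))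
    (p : X' ⟶ Proj (CohB1.polyGrading N₀ k)) [IsClosedImmersion p]
    (hp : p ≫ CohB1.ProjSpace.toSpec N₀ k = g ≫ (X ↘ Spec (CommRingCat.of k))) :
    ∃ d₀ : ℕ, ∀ d : ℕ, d₀ ≤ d → Coh.IsCoh ((Coh.push g).obj (pullTw p (d : ℤ))) ∧
      ∀ N : X.Modules, PicF.IsInvertible N → ∀ q : ℕ,
        Module.finrank k (Coh.HH X (CohB1.tensorMod ((Coh.push g).obj (pullTw p (d : ℤ))) N) q) =
          Module.finrank k (Coh.HH X' (CohB1.tensorMod (pullTw p (d : ℤ)) ((Scheme.Modules.pullback g).obj N)) q) := by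
  classical
  haveI := CurveCohLib.isNoetherian_of_proper (k := k) (X := X)
  haveI : X.IsSeparated := AmpleVan.isSeparated_of_proper (A := k)
  let f := X ↘ Spec (CommRingCat.of k)
  obtain ⟨s, hs, hcov⟩ := isCompact_iff_finite_and_eq_biUnion_affineOpens.mp
    (show IsCompact ((⊤ : X.Opens) : Set X) by simpa using isCompact_univ)
  haveI := hs.to_subtype
  have hcov' : ∀ x : X, ∃ i : s, x ∈ i.1.1 := fun x => by
    have hx : x ∈ (⊤ : X.Opens) := trivial
    rw [hcov] at hx
    obtain ⟨V, hV, hxV⟩ := by simpa only [Opens.mem_iSup, exists_prop] using hx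
    exact ⟨⟨V, hV⟩, hxV⟩
  haveI : ∀ i : s, IsNoetherianRing Γ(X, i.1.1) := fun i => IsLocallyNoetherian.component_noetherian i.1
  choose d₀ hd₀ using fun i : s => exists_rel_vanishing f g p (V := i.1.1) i.1.2 hp
  haveI := Fintype.ofFinite s
  refine ⟨Finset.univ.sup d₀, fun d hd => ⟨⟨QCoh.isQCoh_pushforward g (isQCoh_pullTw p _),
    QCoh.isFT_of_finite (QCoh.isQCoh_pushforward g (isQCoh_pullTw p _)) (fun i : s => i.1.1)
      (IsOpenCover.mk (top_le_iff.1 fun x _ => Opens.mem_iSup.2 (hcov' x))) (fun i => i.1.2)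
      (fun i => finite_sections_push f g p i.1.2 hp d)⟩, fun N hN q => ?_⟩⟩
  obtain ⟨φ⟩ := nonempty_push_tensor g (pullTw p (d : ℤ)) hN
  rw [(CurveCohLib.hhEquiv (k := k) φ q).finrank_eq]
  let M := CohB1.tensorMod (pullTw p (d : ℤ)) ((Scheme.Modules.pullback g).obj N)
  let B : Opens X → Prop := fun W => ∃ (i : s) (b : Γ(X, i.1.1)),
    W = X.basicOpen b ∧ ∃ e : Γ(N, X.basicOpen b), InvX.IsFrame e
  have hB : ∀ (U : Opens X) (y : X), y ∈ U → ∃ W, W ≤ U ∧ y ∈ W ∧ B W := fun U y hy => by
    obtain ⟨i, hi⟩ := hcov' y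
    obtain ⟨U₀, hyU₀, e, he⟩ := InvX.exists_frame hN y
    obtain ⟨b, hbU, hyb⟩ := i.1.2.exists_basicOpen_le (V := U ⊓ U₀) ⟨y, hy, hyU₀⟩ hi
    exact ⟨X.basicOpen b, hbU.trans inf_le_left, hyb, i, b, rfl, _, he.res (hbU.trans inf_le_right)⟩
  refine Eq.symm ?_
  have hnat := H_push_equiv_natural_of_HU (Y := X.toPresheafedSpace.carrier) g.base B hB
    (QCoh.abSheaf M) (fun W hW r => by
      obtain ⟨i, b, rfl, e, he⟩ := hW
      obtain ⟨θ⟩ := nonempty_restrict_tensor_pullback g (pullTw p (d : ℤ)) he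
      exact subsingleton_HU_of_restrict_iso _ θ r
        (subsingleton_HU_preimage_basicOpen f g p i.1.2 hp d b r
          (hd₀ i d ((Finset.le_sup (Finset.mem_univ i)).trans hd) r))) q
  obtain ⟨eHH⟩ := nonempty_linearEquiv_of_natPushEquiv k g hg M q hnat
  rw [eHH.finrank_eq]

end Push

section Image

variable (k : Type u) [Field k] {Y : Scheme.{u}} [Y.Over (Spec (CommRingCat.of k))]
  [IsProper (Y ↘ Spec (CommRingCat.of k))] {L : X.Modules}

/-- The cohomology of twists by a pulled back module grows at most like the power given by the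
dimension of the image of the support. -/
theorem small_of_image_dim_lt [NoetherianSpace X] [QuasiSober X] (f : Y ⟶ X) (hL : PicF.IsInvertible L) (d : ℕ) :
    ∀ (C : Closeds X), topologicalKrullDim ↥(C : Set X) < (d : WithBot ℕ∞) →
      ∀ M : Y.Modules, Coh.IsCoh M → CohB1.support M ⊆ f ⁻¹' C →
        Small k ((Scheme.Modules.pullback f).obj L) M d := by
  haveI := CurveCohLib.isNoetherian_of_proper (k := k) (X := Y)
  have hLY := PicClLib.isInvertible_pullback f hL
  let pre : Closeds X → Closeds Y := fun C => ⟨f ⁻¹' C, C.isClosed.preimage f.continuous⟩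
  induction d with
  | zero =>
    intro C hC M hM hMC
    refine small_of_support_empty k hLY hM.1 (Set.eq_empty_of_forall_notMem fun x hx => ?_) 0
    haveI : Nonempty ↥(C : Set X) := ⟨⟨f x, hMC hx⟩⟩
    haveI : Nonempty (IrreducibleCloseds ↥(C : Set X)) :=
      ⟨⟨closure {⟨f x, hMC hx⟩}, isIrreducible_singleton.closure, isClosed_closure⟩⟩
    exact absurd hC (not_lt.2 (by exact_mod_cast Order.krullDim_nonneg))
  | succ d IHd =>
    intro C
    induction C using WellFoundedLT.induction with
    | ind C IH =>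
      intro hC M hM hMC
      rcases Set.eq_empty_or_nonempty (C : Set X) with h0 | hne
      · refine small_of_support_empty k hLY hM.1 (Set.eq_empty_of_forall_notMem fun x hx => ?_) _
        exact (h0.le (hMC hx) : f x ∈ (∅ : Set X))
      by_cases hirr : IsIrreducible (C : Set X)
      · obtain ⟨η, hη⟩ := QuasiSober.sober hirr C.isClosed
        have hηC : η ∈ (C : Set X) := hη.mem
        obtain ⟨U, hηU, e, he⟩ := InvX.exists_frame hL η
        refine small_step k hLY (C := pre C) (InvX.isFrame_pullElt f he)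
          (fun N hN hNs => IHd ⟨_, C.isClosed.sdiff U.2⟩ ?_ N hN fun y hy => hNs hy) hM hMC
        haveI : IrreducibleSpace ↥(C : Set X) := isIrreducible_iff_irreducibleSpace.1 hirr
        let Y : Set ↥(C : Set X) := {y | (y : X) ∈ (U : Set X)ᶜ}
        have hlt := H23.TopDim.dim_lt_of_ssubset (X := ↥(C : Set X)) (fun h => by rw [h] at hC; exact not_top_lt hC)
          (Y := Y) (U.2.isClosed_compl.preimage continuous_subtype_val)
          (fun h => (h.ge (Set.mem_univ ⟨η, hηC⟩) : η ∈ (U : Set X)ᶜ) hηU)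
        have hle : topologicalKrullDim ↥((C : Set X) \ U) ≤ topologicalKrullDim ↥Y := by
          let g : ↥((C : Set X) \ U) → ↥Y := fun p => ⟨⟨p.1, p.2.1⟩, p.2.2⟩
          have hg : Continuous g := (continuous_subtype_val.subtype_mk _).subtype_mk _
          have hcomp : Topology.IsInducing ((Subtype.val ∘ Subtype.val : ↥Y → X) ∘ g) :=
            show Topology.IsInducing (Subtype.val : ↥((C : Set X) \ U) → X) from Topology.IsInducing.subtypeVal
          exact ((Topology.IsInducing.subtypeVal.comp Topology.IsInducing.subtypeVal).of_comp_iff.1 hcomp).topologicalKrullDim_le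
        refine lt_of_le_of_lt hle ?_
        revert hlt hC
        generalize topologicalKrullDim ↥Y = a
        generalize topologicalKrullDim ↥(C : Set X) = b
        intro hC hlt
        cases a with
        | bot => exact WithBot.bot_lt_coe _
        | coe a =>
          cases b with
          | bot => exact absurd hlt not_lt_bot
          | coe b =>
            have h1 : a < b := WithBot.coe_lt_coe.1 hlt
            have h2 : b < ((d + 1 : ℕ) : ℕ∞) := WithBot.coe_lt_coe.1 hC
            refine WithBot.coe_lt_coe.2 (lt_of_lt_of_le h1 ?_)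
            exact ENat.lt_add_one_iff (ENat.natCast_ne_top d) |>.1 (by exact_mod_cast h2)
      · obtain ⟨A, B, hA, hB, hsub, hnA, hnB⟩ : ∃ A B : Set X, IsClosed A ∧ IsClosed B ∧
            (C : Set X) ⊆ A ∪ B ∧ ¬ (C : Set X) ⊆ A ∧ ¬ (C : Set X) ⊆ B := by
          by_contra! hno
          exact hirr ⟨hne, isPreirreducible_iff_isClosed_union_isClosed.2 fun A B hA hB hs =>
            or_iff_not_imp_left.2 fun hA' => hno A B hA hB hs hA'⟩
        let C₁ : Closeds X := ⟨(C : Set X) ∩ A, C.isClosed.inter hA⟩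
        let C₂ : Closeds X := ⟨(C : Set X) ∩ B, C.isClosed.inter hB⟩
        have h1 : C₁ < C := lt_of_le_of_ne (Set.inter_subset_left : (C : Set X) ∩ A ⊆ C)
          fun h => hnA (Set.inter_eq_left.1 (congrArg (SetLike.coe) h))
        have h2 : C₂ < C := lt_of_le_of_ne (Set.inter_subset_left : (C : Set X) ∩ B ⊆ C)
          fun h => hnB (Set.inter_eq_left.1 (congrArg (SetLike.coe) h))
        have hdim : ∀ C' : Closeds X, C' ≤ C → topologicalKrullDim ↥(C' : Set X) < ((d + 1 : ℕ) : WithBot ℕ∞) :=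
          fun C' h => lt_of_le_of_lt (H23.TopDim.dim_le_dim_of_subset (show (C' : Set X) ⊆ C from h)) hC
        exact small_of_split k hLY (C := pre C) (C₁ := pre C₁) (C₂ := pre C₂)
          (fun x hx => (hsub (show f x ∈ (C : Set X) from hx)).imp (fun h => ⟨hx, h⟩) fun h => ⟨hx, h⟩)
          (IH C₁ h1 (hdim C₁ h1.le)) (IH C₂ h2 (hdim C₂ h2.le)) hM hMC

end Image

section GenFinite

variable (k : Type u) [Field k] {Y : Scheme.{u}} [X.Over (Spec (CommRingCat.of k))]
  [Y.Over (Spec (CommRingCat.of k))] [IsIntegral X] [IsIntegral Y]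
  [IsProper (X ↘ Spec (CommRingCat.of k))] [IsProper (Y ↘ Spec (CommRingCat.of k))]

theorem finrank_eq_toNat_length {R M : Type*} [CommRing R] [AddCommGroup M] [Module R M] (hR : IsField R) :
    Module.finrank R M = (Module.length R M).toNat := by
  letI := hR.toField
  rw [Module.length_eq_rank, Cardinal.toNat_toENat]
  rfl

/-- Generically finite pull-back multiplies cohomology by the degree, up to a small error. -/
theorem exists_error_pullback {B : Y.Modules} (hB : CohB1.IsAmple B) {n : ℕ}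
    (hn : topologicalKrullDim X = n) (f : Y ⟶ X)
    (hf : f ≫ (X ↘ Spec (CommRingCat.of k)) = Y ↘ Spec (CommRingCat.of k))
    (hdom : f.base (genericPoint Y) = genericPoint X) {r : ℕ} (hr : f.residueDegree (genericPoint Y) = r)
    (hr0 : 0 < r) {L : X.Modules} (hL : PicF.IsInvertible L) (i : ℕ) :
    ∃ g, GrowLt n g ∧ ∀ m,
      hp k ((Scheme.Modules.pullback f).obj L) i m ≤ r * hp k L i m + g m ∧
      r * hp k L i m ≤ hp k ((Scheme.Modules.pullback f).obj L) i m + g m := by
  haveI := CurveCohLib.isNoetherian_of_proper (k := k) (X := X)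
  haveI := CurveCohLib.isNoetherian_of_proper (k := k) (X := Y)
  haveI : IsProper f := VarInt.isProper_of_over k f hf
  let qX := X ↘ Spec (CommRingCat.of k)
  let qY := Y ↘ Spec (CommRingCat.of k)
  have hclX : closure ({genericPoint X} : Set X) = Set.univ := isGenericPoint_def.1 (genericPoint_spec X)
  have hclY : closure ({genericPoint Y} : Set Y) = Set.univ := isGenericPoint_def.1 (genericPoint_spec Y)
  have hdim : topologicalKrullDim Y = n := by
    rcases VarInt.residueDegree_eq_zero_or_dim k f hf (genericPoint Y) with h | h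
    · omega
    · rw [hdom, hclX, hclY, (Homeomorph.Set.univ X).isHomeomorph.topologicalKrullDim_eq,
        (Homeomorph.Set.univ Y).isHomeomorph.topologicalKrullDim_eq] at h
      rw [← h, hn]
  have hu : ∀ z, f z = f (genericPoint Y) → z = genericPoint Y := fun z hz => by
    have hY : (VarDim.deg qY (genericPoint Y) : WithBot ℕ∞) = n := by
      rw [← hdim, ← (Homeomorph.Set.univ Y).isHomeomorph.topologicalKrullDim_eq, ← hclY,
        VarDim.topologicalKrullDim_closure_singleton qY]
      rfl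
    have hX : (VarDim.deg qX (genericPoint X) : WithBot ℕ∞) = n := by
      rw [← hn, ← (Homeomorph.Set.univ X).isHomeomorph.topologicalKrullDim_eq, ← hclX,
        VarDim.topologicalKrullDim_closure_singleton qX]
      rfl
    have h1 : VarDim.deg qX (f z) ≤ VarDim.deg qY z := VarDim.deg_map_le f qX hf z
    rw [hz, hdom] at h1
    refine (VarDim.eq_of_specializes_of_deg_le qY (genericPoint_specializes z) ?_).symm
    exact (Nat.cast_le (α := WithBot ℕ∞)).1 (by rw [hY, ← hX]; exact_mod_cast h1)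
  obtain ⟨N, p, b, -, hp', hpf, -⟩ := VarNum31.exists_closedImmersion_pow qY hB
  haveI := hp'
  obtain ⟨d, hd⟩ := exists_push_twist (X' := Y) f hf p (hpf.trans hf.symm)
  obtain ⟨hG, hE⟩ := hd d le_rfl
  let M := pullTw p (d : ℤ)
  let G := (Coh.push f).obj M
  have hM : PicF.IsInvertible M := InvX.isInvertible_of_frames fun x => by
    obtain ⟨⟨l⟩, hl⟩ := PnCoh.Chow.cov_coord k (p x)
    exact ⟨_, hl, _, PnCoh.Chow.isFrame_pFrame p (ProjPt.X_mem l) _⟩
  let LY := (Scheme.Modules.pullback f).obj L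
  have hLY : PicF.IsInvertible LY := PicClLib.isInvertible_pullback f hL
  have hGr : Module.finrank (X.presheaf.stalk (genericPoint X)) (G.presheaf.stalk (genericPoint X)) = r := by
    rw [finrank_eq_toNat_length (CurveBundle.isField_stalk_generic (X := X)), ← hr, ← hdom]
    exact VarInt.length_push_generic f f.isClosedMap hM hu
  obtain ⟨gY, hgY, eY⟩ := exists_error_rank k hLY hdim (AmpleVan.isCoh_invertible hM)
    (r := 1) (finrank_stalk_invertible hM _) i
  obtain ⟨gX, hgX, eX⟩ := exists_error_rank k hL hn hG hGr i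
  refine ⟨fun m => gX m + gY m, hgX.add hgY, fun m => ?_⟩
  have e : VarGrow31.hd k L G i m = VarGrow31.hd k LY M i m := by
    show Module.finrank k (Coh.HH X (CohB1.tensorMod G (CohB1.tensorPow L m)) i) = _
    rw [hE _ (InvX.isInvertible_tensorPow hL m) i]
    refine (CurveCohLib.hhEquiv (k := k) (cl_eq_iff.1 ?_).some i).finrank_eq
    show PicF.cl (CohB1.tensorMod M ((Scheme.Modules.pullback f).obj (CohB1.tensorPow L m))) =
      PicF.cl (CohB1.tensorMod M (CohB1.tensorPow LY m))
    rw [cl_tensor, cl_tensor, cl_tensorPow LY]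
    show _ * PicF.pullCl f (PicF.cl (CohB1.tensorPow L m)) = _
    rw [cl_tensorPow, pullCl_pow]
    rfl
  have a := eY m
  have c := eX m
  rw [e] at c
  simp only [hp, LY] at *
  omega

end GenFinite

end Groth.Agent.VarGrow31

namespace Groth.Agent.VarGrow31

open Groth.Agent
open Filter Topology

variable (k : Type u) [Field k] {X Y : Scheme.{u}} [X.Over (Spec (CommRingCat.of k))]
  [Y.Over (Spec (CommRingCat.of k))] [IsIntegral X] [IsIntegral Y]
  [IsProper (X ↘ Spec (CommRingCat.of k))] [IsProper (Y ↘ Spec (CommRingCat.of k))]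

/-- Generically finite pull-back multiplies the asymptotic cohomology by the degree. -/
theorem hhat_pullback {B : Y.Modules} (hB : CohB1.IsAmple B) {n : ℕ}
    (hn : topologicalKrullDim X = n) (f : Y ⟶ X)
    (hf : f ≫ (X ↘ Spec (CommRingCat.of k)) = Y ↘ Spec (CommRingCat.of k))
    (hdom : f.base (genericPoint Y) = genericPoint X) {r : ℕ} (hr : f.residueDegree (genericPoint Y) = r)
    (hr0 : 0 < r) {L : X.Modules} (hL : PicF.IsInvertible L) (i : ℕ) :
    W4c5asymptcohfn.hhat k Y n i ((Scheme.Modules.pullback f).obj L) =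
      (r : ℝ) * W4c5asymptcohfn.hhat k X n i L := by
  obtain ⟨g, hg, e⟩ := exists_error_pullback k hB hn f hf hdom hr hr0 hL i
  obtain ⟨C, hC⟩ := exists_bound_hp k hL hn.le i
  obtain ⟨⟨C', hC'⟩, -⟩ := exists_bound_succ hg
  have hb : GrowLt (n + 1) (hp k ((Scheme.Modules.pullback f).obj L) i) := ⟨r * C + C', fun m => by
    refine (e m).1.trans ?_
    rw [add_mul]
    refine Nat.add_le_add ?_ (hC' m)
    rw [mul_assoc]
    exact Nat.mul_le_mul_left r (hC m)⟩
  rw [hhat_eq, hhat_eq, ← limsup_normSeq_const_mul (Nat.cast_nonneg _) hC]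
  exact limsup_eq_of_error hb hg e _ (Nat.cast_nonneg _)

/-- The difference of the dimensions of sections is of smaller order. -/
theorem isBigO_pullback {B : Y.Modules} (hB : CohB1.IsAmple B) {n : ℕ}
    (hn : topologicalKrullDim X = n) (f : Y ⟶ X)
    (hf : f ≫ (X ↘ Spec (CommRingCat.of k)) = Y ↘ Spec (CommRingCat.of k))
    (hdom : f.base (genericPoint Y) = genericPoint X) {r : ℕ} (hr : f.residueDegree (genericPoint Y) = r)
    (hr0 : 0 < r) {L : X.Modules} (hL : PicF.IsInvertible L) (i : ℕ) :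
    (fun m : ℕ => (hp k ((Scheme.Modules.pullback f).obj L) i m : ℝ) - r * hp k L i m) =O[atTop]
      (fun m : ℕ => (m : ℝ) ^ (n - 1)) := by
  obtain ⟨g, hg, e⟩ := exists_error_pullback k hB hn f hf hdom hr hr0 hL i
  obtain ⟨C, hC⟩ : ∃ C : ℕ, ∀ m, g m ≤ C * (m + 1) ^ (n - 1) := by
    cases n with
    | zero => exact ⟨0, fun m => by rw [hg m]; exact Nat.zero_le _⟩
    | succ d => exact hg
  refine Asymptotics.IsBigO.of_bound ((C : ℝ) * 2 ^ (n - 1)) ?_
  filter_upwards [eventually_ge_atTop 1] with m hm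
  have h1 : (hp k ((Scheme.Modules.pullback f).obj L) i m : ℝ) ≤ r * hp k L i m + g m := by
    exact_mod_cast (e m).1
  have h2 : (r : ℝ) * hp k L i m ≤ hp k ((Scheme.Modules.pullback f).obj L) i m + g m := by
    exact_mod_cast (e m).2
  have h3 : (g m : ℝ) ≤ C * ((m : ℝ) + 1) ^ (n - 1) := by exact_mod_cast hC m
  have h4 := mul_le_mul_of_nonneg_left (succ_pow_le (n - 1) hm) (Nat.cast_nonneg (α := ℝ) C)
  rw [Real.norm_eq_abs, Real.norm_of_nonneg (pow_nonneg (Nat.cast_nonneg _) _), abs_le]
  constructor <;> linarith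

/-- Pull-back along a map with smaller image has vanishing asymptotic cohomology. -/
theorem hhat_pullback_eq_zero {n e : ℕ} (hn : topologicalKrullDim X = n) (hne : n < e) (f : Y ⟶ X)
    {L : X.Modules} (hL : PicF.IsInvertible L) (i : ℕ) :
    W4c5asymptcohfn.hhat k Y e i ((Scheme.Modules.pullback f).obj L) = 0 := by
  haveI := CurveCohLib.isNoetherian_of_proper (k := k) (X := X)
  haveI := CurveCohLib.isNoetherian_of_proper (k := k) (X := Y)
  have h := small_of_image_dim_lt k f hL e ⊤ (lt_of_le_of_lt ((topologicalKrullDim_subspace_le X _).trans hn.le)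
    (by exact_mod_cast hne)) _ QCoh.isCoh_structureModule' (fun y _ => trivial) i
  rw [hhat_eq]
  refine ((exists_bound_succ (h.mono fun m => ?_)).2 _).limsup_eq
  exact (hp_eq_hd k _ i m).le

/-- Bigness is invariant under birational pull-back. -/
theorem big_iff_pullback {B : Y.Modules} (hB : CohB1.IsAmple B) {n : ℕ}
    (hn : topologicalKrullDim X = n) (f : Y ⟶ X)
    (hf : f ≫ (X ↘ Spec (CommRingCat.of k)) = Y ↘ Spec (CommRingCat.of k))
    (hdom : f.base (genericPoint Y) = genericPoint X) (hr : f.residueDegree (genericPoint Y) = 1)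
    {L : X.Modules} (hL : PicF.IsInvertible L) :
    (∃ c : ℝ, 0 < c ∧ ∀ᶠ m : ℕ in atTop, c * (m : ℝ) ^ n < (hp k L 0 m : ℝ)) ↔
      (∃ c : ℝ, 0 < c ∧ ∀ᶠ m : ℕ in atTop,
        c * (m : ℝ) ^ n < (hp k ((Scheme.Modules.pullback f).obj L) 0 m : ℝ)) := by
  obtain ⟨g, hg, e⟩ := exists_error_pullback k hB hn f hf hdom hr one_pos hL 0
  have hz := (exists_bound_succ hg).2 1
  have key : ∀ p q : ℕ → ℕ, (∀ m, p m ≤ q m + g m) →
      (∃ c : ℝ, 0 < c ∧ ∀ᶠ m : ℕ in atTop, c * (m : ℝ) ^ n < (p m : ℝ)) →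
      ∃ c : ℝ, 0 < c ∧ ∀ᶠ m : ℕ in atTop, c * (m : ℝ) ^ n < (q m : ℝ) := by
    rintro p q hpq ⟨c, hc, hev⟩
    refine ⟨c / 2, half_pos hc, ?_⟩
    filter_upwards [hev, hz.eventually (eventually_lt_nhds (half_pos hc)), eventually_ge_atTop 1] with m hm hg' hm1
    have hm0 : (0 : ℝ) < (m : ℝ) ^ n := pow_pos (by exact_mod_cast hm1) n
    rw [normSeq, mul_one, div_lt_iff₀ hm0] at hg'
    have : (p m : ℝ) ≤ q m + g m := by exact_mod_cast hpq m
    linarith
  exact ⟨key _ _ fun m => by simpa using (e m).2, key _ _ fun m => by simpa using (e m).1⟩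

end Groth.Agent.VarGrow31

namespace Groth.Agent.VarGrow31

open Groth.Agent Groth.Agent.H23.PicMul
open Filter Topology

variable (k : Type u) [Field k] {X Y : Scheme.{u}} [X.Over (Spec (CommRingCat.of k))]
  [Y.Over (Spec (CommRingCat.of k))] [IsIntegral X] [IsIntegral Y]
  [IsProper (X ↘ Spec (CommRingCat.of k))] [IsProper (Y ↘ Spec (CommRingCat.of k))]

/-- Bigness is invariant under birational pull-back between proper varieties. -/
theorem big_iff_pullback_of_birational {n : ℕ} (hn : topologicalKrullDim X = n)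
    (hnY : topologicalKrullDim Y = n) (f : Y ⟶ X)
    (hf : f ≫ (X ↘ Spec (CommRingCat.of k)) = Y ↘ Spec (CommRingCat.of k))
    (hdom : f.base (genericPoint Y) = genericPoint X) (hr : f.residueDegree (genericPoint Y) = 1)
    {L : X.Modules} (hL : PicF.IsInvertible L) :
    (∃ c : ℝ, 0 < c ∧ ∀ᶠ m : ℕ in atTop, c * (m : ℝ) ^ n < (hp k L 0 m : ℝ)) ↔
      (∃ c : ℝ, 0 < c ∧ ∀ᶠ m : ℕ in atTop,
        c * (m : ℝ) ^ n < (hp k ((Scheme.Modules.pullback f).obj L) 0 m : ℝ)) := by
  obtain ⟨N₀, Y', π, p, hint, hp', hpf, hπ, U, hU, hiso⟩ :=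
    PnCoh.Chow.chow_integral (Y ↘ Spec (CommRingCat.of k))
  haveI := hint
  haveI := hp'
  haveI := hπ
  haveI := hiso
  letI : Y'.Over (Spec (CommRingCat.of k)) := ⟨π ≫ (Y ↘ Spec (CommRingCat.of k))⟩
  haveI : IsProper (Y' ↘ Spec (CommRingCat.of k)) :=
    inferInstanceAs (IsProper (π ≫ (Y ↘ Spec (CommRingCat.of k))))
  obtain ⟨B, hB⟩ := AmpleVan.exists_ample_of_closedImmersion_projSpace p
  have hη : genericPoint Y ∈ U := ((genericPoint_spec Y).mem_open_set_iff U.2).2
    (by obtain ⟨u⟩ := hU; exact ⟨u.1, trivial, u.2⟩)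
  obtain ⟨x₀, hx₀⟩ : ∃ x₀ : (π ⁻¹ᵁ U).toScheme, (π ∣_ U) x₀ = ⟨genericPoint Y, hη⟩ :=
    (TopCat.homeoOfIso (asIso (π ∣_ U).base)).surjective _
  have hx₀' : π x₀.1 = genericPoint Y := by
    have h := congrArg Subtype.val hx₀
    rwa [morphismRestrict_base_coe] at h
  have hπη : π (genericPoint Y') = genericPoint Y := by
    have h1 : π (genericPoint Y') ⤳ genericPoint Y := hx₀' ▸ (genericPoint_specializes x₀.1).map π.continuous
    exact (h1.antisymm (genericPoint_specializes _)).eq
  have hπr : π.residueDegree (genericPoint Y') = 1 := by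
    haveI : IsIso (π.stalkMap (genericPoint Y')) := by
      exact (MorphismProperty.arrow_mk_iso_iff (.isomorphisms _)
        (morphismRestrictStalkMap π U ⟨genericPoint Y', show π (genericPoint Y') ∈ U by rw [hπη]; exact hη⟩)).1
          ((MorphismProperty.isomorphisms.iff _).2 inferInstance)
    refine CycLib.residueDegree_of_surjective π fun a => ?_
    obtain ⟨a, rfl⟩ := Y'.residue_surjective _ a
    obtain ⟨b, rfl⟩ := (ConcreteCategory.bijective_of_isIso (π.stalkMap (genericPoint Y'))).2 a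
    exact ⟨Y.residue _ b, congr($(Scheme.residue_residueFieldMap π (genericPoint Y')) b)⟩
  have h1 := big_iff_pullback k hB hnY π rfl hπη hπr (PicClLib.isInvertible_pullback f hL)
  have hres : (π ≫ f).residueDegree (genericPoint Y') = 1 := by
    rw [CycLib.residueDegree_comp π f, hπr, mul_one, hπη, hr]
  have h2 := big_iff_pullback k hB hn (π ≫ f) (by rw [Category.assoc, hf]; rfl)
    ((congrArg f.base hπη).trans hdom) hres hL
  have e : hp k ((Scheme.Modules.pullback (π ≫ f)).obj L) 0 =
      hp k ((Scheme.Modules.pullback π).obj ((Scheme.Modules.pullback f).obj L)) 0 := funext fun m => by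
    refine (CurveCohLib.hhEquiv (k := k) (H23.PicMul.cl_eq_iff.1 ?_).some 0).finrank_eq
    rw [H23.PicMul.cl_tensorPow, H23.PicMul.cl_tensorPow]
    exact congrArg (· ^ m) (H23.PicMul.cl_eq_iff.2 ⟨((Scheme.Modules.pullbackComp π f).app L).symm⟩)
  rw [e] at h2
  exact h2.trans h1.symm

end Groth.Agent.VarGrow31
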