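import Groth.Agent.VarGrow31.Volume
import Mathlib.Topology.Instances.ENNReal.Lemmas

/-!
# Volumes in the extended non-negative reals
-/

noncomputable section

open Filter Topology ENNReal

namespace Groth.Agent.VarGrow31

theorem eventuallyEq_ofReal (n : ℕ) (f : ℕ → ℕ) :
    (fun m : ℕ => (f m : ℝ≥0∞) / (m : ℝ≥0∞) ^ n) =ᶠ[atTop] fun m => ENNReal.ofReal (normSeq n 1 f m) := by
  filter_upwards [eventually_ge_atTop 1] with m hm
  have hm0 : (0 : ℝ) < (m : ℝ) := by exact_mod_cast hm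
  rw [normSeq, mul_one, ENNReal.ofReal_div_of_pos (pow_pos hm0 n), ENNReal.ofReal_natCast,
    ENNReal.ofReal_pow hm0.le, ENNReal.ofReal_natCast]

/-- The upper limit computed in `ℝ≥0∞`. -/
theorem limsup_ennreal {n : ℕ} {f : ℕ → ℕ} {C : ℕ} (h : ∀ m, f m ≤ C * (m + 1) ^ n) :
    limsup (fun m : ℕ => (f m : ℝ≥0∞) / (m : ℝ≥0∞) ^ n) atTop =
      ENNReal.ofReal (limsup (normSeq n 1 f) atTop) := by
  rw [limsup_congr (eventuallyEq_ofReal n f)]
  exact ((Monotone.map_limsup_of_continuousAt (f := ENNReal.ofReal) (fun _ _ hxy => ENNReal.ofReal_le_ofReal hxy)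
    (normSeq n 1 f) ENNReal.continuous_ofReal.continuousAt (normSeq_bounded zero_le_one h)
    (normSeq_isCobounded n zero_le_one f))).symm

end Groth.Agent.VarGrow31
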