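import Groth.Agent.VarGrow31.Multi
import Groth.Agent.VarGrow31.Asymp
import Groth.Agent.SurfInt.Sections

/-!
# Lipschitz estimate for asymptotic cohomology along multiples of several classes
-/

noncomputable section

set_option linter.style.haveILetI false
set_option linter.unusedSectionVars false
set_option backward.isDefEq.respectTransparency false
set_option backward.isDefEq.respectTransparency.types false

universe u

open CategoryTheory CategoryTheory.Limits AlgebraicGeometry TopologicalSpace Filter Topology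
open scoped Groth.Agent.H23.PicMul

namespace Groth.Agent.VarGrow31

open Groth.Agent

variable {r : ℕ}

/-- Telescoping along a path between two exponents. -/
theorem lipschitz_of_step {n : ℕ} {F g : (Fin r → ℕ) → ℕ} (hg : GrowLtM n g)
    (e : ∀ a j, F (a + Pi.single j 1) ≤ F a + g a ∧ F a ≤ F (a + Pi.single j 1) + g a) :
    ∃ C : ℕ, (n = 0 → C = 0) ∧ ∀ a b, F a ≤ F b +
      C * (∑ j, Nat.dist (a j) (b j)) * ((∑ j, a j) + (∑ j, b j) + 1) ^ (n - 1) := by
  obtain ⟨C, hC0, hC⟩ : ∃ C : ℕ, (n = 0 → C = 0) ∧ ∀ a, g a ≤ C * ((∑ j, a j) + 1) ^ (n - 1) := by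
    cases n with
    | zero => exact ⟨0, fun _ => rfl, fun a => (hg a).le.trans (Nat.zero_le _)⟩
    | succ d => obtain ⟨C, hC⟩ := hg; exact ⟨C, fun h => absurd h d.succ_ne_zero, hC⟩
  refine ⟨C, hC0, fun a b => ?_⟩
  generalize hD : (∑ j, Nat.dist (a j) (b j)) = D
  induction D generalizing a b with
  | zero =>
    have : a = b := funext fun j => Nat.eq_of_dist_eq_zero (Nat.le_zero.1 (hD ▸
      Finset.single_le_sum (f := fun j => Nat.dist (a j) (b j)) (fun _ _ => Nat.zero_le _) (Finset.mem_univ j)))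
    subst this
    omega
  | succ D ih =>
    obtain ⟨j, hj⟩ : ∃ j, a j ≠ b j := by
      by_contra! h
      rw [Finset.sum_eq_zero (fun j _ => by rw [h j, Nat.dist_self])] at hD
      omega
    have step : ∀ a' b' : Fin r → ℕ, (∑ i, Nat.dist (a' i) (b' i)) = D →
        (∑ i, a' i) + (∑ i, b' i) + 1 ≤ (∑ i, a i) + (∑ i, b i) →
        F a' ≤ F b' + C * D * ((∑ i, a i) + (∑ i, b i) + 1) ^ (n - 1) := fun a' b' h1 h2 =>
      (ih a' b' h1).trans (Nat.add_le_add_left (Nat.mul_le_mul_left _ (Nat.pow_le_pow_left (by omega) _)) _)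
    have hgb : ∀ a' : Fin r → ℕ, (∑ i, a' i) ≤ (∑ i, a i) + (∑ i, b i) →
        g a' ≤ C * ((∑ i, a i) + (∑ i, b i) + 1) ^ (n - 1) := fun a' h =>
      (hC a').trans (Nat.mul_le_mul_left _ (Nat.pow_le_pow_left (by omega) _))
    have hsum : ∀ a' b' : Fin r → ℕ, Nat.dist (a' j) (b' j) + 1 = Nat.dist (a j) (b j) →
        (∀ i, i ≠ j → a' i = a i ∧ b' i = b i) → (∑ i, Nat.dist (a' i) (b' i)) = D := by
      intro a' b' h1 h2
      rw [← Finset.add_sum_erase _ _ (Finset.mem_univ j)] at hD ⊢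
      rw [Finset.sum_congr rfl fun i hi => by
        obtain ⟨x, y⟩ := h2 i (Finset.ne_of_mem_erase hi); rw [x, y]]
      omega
    rw [mul_add, mul_one, add_mul]
    rcases lt_or_gt_of_ne hj with h | h
    · obtain ⟨b', rfl, hb⟩ := exists_sub_single (j := j) (show 0 < b j by omega)
      have h1 := step a b' (hsum a b' (by simp [Nat.dist] at h ⊢; omega) fun i hi => ⟨rfl, by simp [hi]⟩)
        (by omega)
      have h2 := (e b' j).2
      have h3 := hgb b' (by omega)
      omega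
    · obtain ⟨a', rfl, ha⟩ := exists_sub_single (j := j) (show 0 < a j by omega)
      have h1 := step a' b (hsum a' b (by simp [Nat.dist] at h ⊢; omega) fun i hi => ⟨by simp [hi], rfl⟩)
        (by omega)
      have h2 := (e a' j).1
      have h3 := hgb a' (by omega)
      omega

theorem limsup_le_of_tendsto {u w : ℕ → ℝ} {K : ℝ} (hu0 : ∀ m, 0 ≤ u m) (h : ∀ᶠ m in atTop, u m ≤ w m)
    (hw : Tendsto w atTop (𝓝 K)) : limsup u atTop ≤ K :=
  (limsup_le_limsup h (isBoundedUnder_of_eventually_ge (Eventually.of_forall hu0)).isCoboundedUnder_le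
    hw.isBoundedUnder_le).trans hw.limsup_eq.le

/-- Upper limits of close sequences are close. -/
theorem limsup_sub_le_of_tendsto {u v w : ℕ → ℝ} {K : ℝ} (hu : ∀ m, 0 ≤ u m) (hv : ∀ m, 0 ≤ v m)
    (hvb : IsBoundedUnder (· ≤ ·) atTop v) (h : ∀ᶠ m in atTop, u m ≤ v m + w m)
    (hw : Tendsto w atTop (𝓝 K)) : limsup u atTop - limsup v atTop ≤ K := by
  have hvc : IsCoboundedUnder (· ≤ ·) atTop v :=
    (isBoundedUnder_of_eventually_ge (Eventually.of_forall hv)).isCoboundedUnder_le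
  rw [sub_le_iff_le_add']
  refine le_of_forall_pos_le_add fun ε hε => ?_
  have h1 : limsup u atTop ≤ limsup (fun m => v m + (K + ε)) atTop := by
    refine limsup_le_limsup ?_ (isBoundedUnder_of_eventually_ge (Eventually.of_forall hu)).isCoboundedUnder_le ?_
    · filter_upwards [h, hw.eventually (gt_mem_nhds (show K < K + ε by linarith))] with m hm hm'
      linarith
    · obtain ⟨B, hB⟩ := hvb
      exact ⟨B + (K + ε), by
        rw [eventually_map] at hB ⊢
        filter_upwards [hB] with m hm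
        linarith⟩
  rw [limsup_add_const atTop v (K + ε) hvb hvc] at h1
  linarith

theorem tendsto_affine_pow (R : ℕ) (e : ℕ) :
    Tendsto (fun m : ℕ => ((R : ℝ) + 1 / (m : ℝ)) ^ e) atTop (𝓝 ((R : ℝ) ^ e)) := by
  simpa using ((tendsto_one_div_atTop_nhds_zero_nat (𝕜 := ℝ)).const_add (R : ℝ)).pow e

theorem step_real (x y C D R d m : ℕ) (hm0 : (0 : ℝ) < m) (h : x ≤ y + C * (m * D) * (m * R + 1) ^ d) :
    (x : ℝ) * ((d + 1).factorial : ℝ) / (m : ℝ) ^ (d + 1) ≤
      (y : ℝ) * ((d + 1).factorial : ℝ) / (m : ℝ) ^ (d + 1) +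
        ((C * (d + 1).factorial : ℕ) : ℝ) * (D : ℝ) * ((R : ℝ) + 1 / (m : ℝ)) ^ d := by
  have h2 : (x : ℝ) ≤ y + (C : ℝ) * ((m : ℝ) * D) * ((m : ℝ) * R + 1) ^ d := by exact_mod_cast h
  generalize (d + 1).factorial = c
  have e : ((C * c : ℕ) : ℝ) * (D : ℝ) * ((R : ℝ) + 1 / (m : ℝ)) ^ d =
      ((C : ℝ) * ((m : ℝ) * D) * ((m : ℝ) * R + 1) ^ d) * c / (m : ℝ) ^ (d + 1) := by
    rw [show (R : ℝ) + 1 / (m : ℝ) = ((m : ℝ) * R + 1) / m by field_simp, div_pow, pow_succ, Nat.cast_mul]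
    field_simp
  rw [e, ← add_div, ← add_mul]
  gcongr

variable (k : Type u) [Field k] {X : Scheme.{u}} [X.Over (Spec (CommRingCat.of k))]

/-- The upper limit of `dim_k H^i(X, L^{m a})` normalised in dimension `n`. -/
def mhat (n : ℕ) (L : Fin r → X.Modules) (i : ℕ) (a : Fin r → ℕ) : ℝ :=
  limsup (normSeq n (n.factorial : ℝ) fun m => hm k L (Coh.structureModule X) i (m • a)) atTop

theorem mclass_nsmul (L : Fin r → X.Modules) (m : ℕ) (a : Fin r → ℕ) :
    mclass L (m • a) = mclass L a ^ m := by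
  simp only [mclass, ← Finset.prod_pow, Pi.smul_apply, smul_eq_mul]
  exact Finset.prod_congr rfl fun j _ => by rw [mul_comm, pow_mul]

/-- The asymptotic cohomology of a module in the class `L^a`. -/
theorem hhat_eq_mhat (n : ℕ) (L : Fin r → X.Modules) (i : ℕ) (a : Fin r → ℕ) {P : X.Modules}
    (hP : PicF.cl P = mclass L a) : W4c5asymptcohfn.hhat k X n i P = mhat k n L i a := by
  have key : ∀ m, Module.finrank k (Coh.HH X (CohB1.tensorPow P m) i) =
      hm k L (Coh.structureModule X) i (m • a) := fun m => by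
    unfold hm
    rw [← H23.PicMul.one_def, one_mul, mclass_nsmul, ← hP, ← H23.PicMul.cl_tensorPow, hc_cl]
  show limsup (normSeq n (n.factorial : ℝ) fun m => Module.finrank k (Coh.HH X (CohB1.tensorPow P m) i)) atTop = _
  simp only [key]
  rfl

variable [IsProper (X ↘ Spec (CommRingCat.of k))] {L : Fin r → X.Modules}

theorem exists_bound_mhat (hL : ∀ j, PicF.IsInvertible (L j)) {n : ℕ} (hn : topologicalKrullDim X ≤ n)
    (i : ℕ) : ∃ C : ℕ, ∀ a, mhat k n L i a ≤ C * ((∑ j, a j : ℕ) : ℝ) ^ n := by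
  haveI := CurveCohLib.isNoetherian_of_proper (k := k) (X := X)
  obtain ⟨C, hC⟩ := smallM_top k hL hn QCoh.isCoh_structureModule' i
  refine ⟨C * n.factorial, fun a => limsup_le_of_tendsto (normSeq_nonneg n (Nat.cast_nonneg _) _)
    (w := fun m => ((C * n.factorial : ℕ) : ℝ) * (((∑ j, a j : ℕ) : ℝ) + 1 / (m : ℝ)) ^ n) ?_
    ((tendsto_affine_pow _ n).const_mul _)⟩
  filter_upwards [eventually_ge_atTop 1] with m hm1
  have hm0 : (0 : ℝ) < m := by exact_mod_cast hm1
  have h1 := hC (m • a)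
  simp only [Pi.smul_apply, smul_eq_mul, ← Finset.mul_sum] at h1
  have h2 : (hm k L (Coh.structureModule X) i (m • a) : ℝ) ≤ C * ((m : ℝ) * (∑ j, a j : ℕ) + 1) ^ n := by
    exact_mod_cast h1
  have e : ((∑ j, a j : ℕ) : ℝ) + 1 / (m : ℝ) = ((m : ℝ) * (∑ j, a j : ℕ) + 1) / m := by field_simp
  rw [e, div_pow, normSeq, mul_div_assoc', Nat.cast_mul]
  refine div_le_div_of_nonneg_right ?_ (by positivity)
  exact (mul_le_mul_of_nonneg_right h2 (Nat.cast_nonneg (α := ℝ) n.factorial)).trans_eq (by ring)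

theorem mhat_bdd (hL : ∀ j, PicF.IsInvertible (L j)) {n : ℕ} (hn : topologicalKrullDim X ≤ n)
    (i : ℕ) (a : Fin r → ℕ) : IsBoundedUnder (· ≤ ·) atTop
      (normSeq n (n.factorial : ℝ) fun m => hm k L (Coh.structureModule X) i (m • a)) := by
  haveI := CurveCohLib.isNoetherian_of_proper (k := k) (X := X)
  obtain ⟨C, hC⟩ := smallM_top k hL hn QCoh.isCoh_structureModule' i
  refine normSeq_bounded (Nat.cast_nonneg _) (C := C * ((∑ j, a j) + 1) ^ n) fun m => (hC _).trans ?_
  simp only [Pi.smul_apply, smul_eq_mul, ← Finset.mul_sum]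
  rw [mul_assoc, ← mul_pow]
  refine Nat.mul_le_mul_left _ (Nat.pow_le_pow_left ?_ _)
  generalize (∑ j, a j) = S
  calc m * S + 1 ≤ m * S + 1 + (S + m) := Nat.le_add_right _ _
    _ = (S + 1) * (m + 1) := by ring

/-- On an integral scheme of dimension `n` the asymptotic cohomology is Lipschitz of order `n - 1`. -/
theorem exists_lipschitz_mhat [IsIntegral X] (hL : ∀ j, PicF.IsInvertible (L j)) {n : ℕ}
    (hn : topologicalKrullDim X ≤ n) (i : ℕ) : ∃ C : ℕ, (n = 0 → C = 0) ∧ ∀ a b,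
      |mhat k n L i a - mhat k n L i b| ≤ C * ((∑ j, Nat.dist (a j) (b j) : ℕ) : ℝ) *
        (((∑ j, a j) + (∑ j, b j) : ℕ) : ℝ) ^ (n - 1) := by
  haveI := CurveCohLib.isNoetherian_of_proper (k := k) (X := X)
  obtain ⟨g, hg, he⟩ := exists_errorM_top k hL hn QCoh.isCoh_structureModule' i
  obtain ⟨C, hC0, hC⟩ := lipschitz_of_step hg he
  refine ⟨C * n.factorial, fun h => by rw [hC0 h, zero_mul], ?_⟩
  suffices key : ∀ a b, mhat k n L i a - mhat k n L i b ≤ ((C * n.factorial : ℕ) : ℝ) *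
      ((∑ j, Nat.dist (a j) (b j) : ℕ) : ℝ) * (((∑ j, a j) + (∑ j, b j) : ℕ) : ℝ) ^ (n - 1) by
    intro a b
    refine abs_le.2 ⟨?_, key a b⟩
    have := key b a
    rw [Finset.sum_congr rfl fun j _ => Nat.dist_comm (b j) (a j), add_comm (∑ j, b j)] at this
    linarith
  intro a b
  refine limsup_sub_le_of_tendsto (normSeq_nonneg n (Nat.cast_nonneg _) _) (normSeq_nonneg n (Nat.cast_nonneg _) _)
    (mhat_bdd k hL hn i b) ?_
    (((tendsto_affine_pow _ (n - 1)).const_mul _))
  filter_upwards [eventually_ge_atTop 1] with m hm1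
  have hm0 : (0 : ℝ) < m := by exact_mod_cast hm1
  have h1 := hC (m • a) (m • b)
  simp only [Pi.smul_apply, smul_eq_mul, Nat.dist_mul_left, ← Finset.mul_sum] at h1
  rcases Nat.eq_zero_or_pos n with h0 | h0
  · rw [hC0 h0] at h1 ⊢
    simp only [zero_mul, add_zero] at h1
    subst h0
    simp only [normSeq, pow_zero, div_one, zero_mul, Nat.cast_zero, add_zero]
    gcongr
  · obtain ⟨d, rfl⟩ : ∃ d, n = d + 1 := ⟨n - 1, by omega⟩
    simp only [Nat.add_sub_cancel] at h1 ⊢
    rw [show m * (∑ j, a j) + m * (∑ j, b j) = m * ((∑ j, a j) + ∑ j, b j) by ring] at h1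
    generalize (∑ j, a j) + (∑ j, b j) = R at h1 ⊢
    generalize (∑ j, Nat.dist (a j) (b j)) = D at h1 ⊢
    generalize hx : hm k L (Coh.structureModule X) i (m • a) = x at h1 ⊢
    generalize hy : hm k L (Coh.structureModule X) i (m • b) = y at h1 ⊢
    simp only [normSeq, hx, hy]
    exact step_real x y C D R d m hm0 h1

/-- The exponent of `L ++ M` standing for an integer exponent. -/
def zexp (a : Fin r → ℤ) : Fin (r + r) → ℕ :=
  Fin.append (fun j => (a j).toNat) fun j => (-(a j)).toNat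

theorem cl_ztwist (L M : Fin r → X.Modules) (a : Fin r → ℤ) :
    PicF.cl (W4c5asymptcohfn.ztwist X L M a) = mclass (Fin.append L M) (zexp a) := by
  rw [W4c5asymptcohfn.ztwist, H23.PicMul.cl_tensor, cl_multiTwist', cl_multiTwist']
  simp only [mclass, zexp, Fin.prod_univ_add, Fin.append_left, Fin.append_right]

theorem sum_zexp_le (a : Fin r → ℤ) :
    ((∑ j, zexp a j : ℕ) : ℝ) ≤ r * ‖(fun j => ((a j : ℤ) : ℝ))‖ := by
  have e : (∑ j, zexp a j : ℕ) = ∑ j, (a j).natAbs := by
    rw [Fin.sum_univ_add]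
    simp only [zexp, Fin.append_left, Fin.append_right, ← Finset.sum_add_distrib]
    exact Finset.sum_congr rfl fun j _ => by omega
  rw [e, Nat.cast_sum]
  refine (Finset.sum_le_card_nsmul _ _ ‖(fun j => ((a j : ℤ) : ℝ))‖ fun j _ => ?_).trans (by simp)
  refine le_trans ?_ (norm_le_pi_norm _ j)
  rw [Real.norm_eq_abs, Nat.cast_natAbs, Int.cast_abs]

theorem sum_dist_zexp_le (a b : Fin r → ℤ) :
    ((∑ j, Nat.dist (zexp a j) (zexp b j) : ℕ) : ℝ) ≤ r * ‖(fun j => ((a j - b j : ℤ) : ℝ))‖ := by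
  have e : (∑ j, Nat.dist (zexp a j) (zexp b j) : ℕ) = ∑ j, (a j - b j).natAbs := by
    rw [Fin.sum_univ_add]
    simp only [zexp, Fin.append_left, Fin.append_right, ← Finset.sum_add_distrib, Nat.dist]
    exact Finset.sum_congr rfl fun j _ => by omega
  rw [e, Nat.cast_sum]
  refine (Finset.sum_le_card_nsmul _ _ ‖(fun j => ((a j - b j : ℤ) : ℝ))‖ fun j _ => ?_).trans (by simp)
  refine le_trans ?_ (norm_le_pi_norm _ j)
  rw [Real.norm_eq_abs, Nat.cast_natAbs, Int.cast_abs]

theorem isInvertible_append {M : Fin r → X.Modules} (hL : ∀ j, PicF.IsInvertible (L j))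
    (hM : ∀ j, ClSub.IsInverseOf (L j) (M j)) (j : Fin (r + r)) :
    PicF.IsInvertible (Fin.append L M j) := by
  induction j using Fin.addCases with
  | left j => rw [Fin.append_left]; exact hL j
  | right j => rw [Fin.append_right]; exact SurfInt.isInvertible_of_isInverse (hL j) (hM j)

end Groth.Agent.VarGrow31
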