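import Groth.Agent.VarGrow31.Big
import Groth.Agent.Snapper.DimVanish
import Groth.Agent.S0051

/-!
# Top asymptotic cohomology of big modules
-/

noncomputable section

set_option linter.style.haveILetI false
set_option linter.unusedSectionVars false
set_option backward.isDefEq.respectTransparency false
set_option backward.isDefEq.respectTransparency.types false

universe u

open CategoryTheory CategoryTheory.Limits AlgebraicGeometry TopologicalSpace Filter Topology

namespace Groth.Agent.VarGrow31

open Groth.Agent

variable (k : Type u) [Field k] {X : Scheme.{u}} [X.Over (Spec (CommRingCat.of k))]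
  [IsProper (X ↘ Spec (CommRingCat.of k))] [IsIntegral X] {n : ℕ}

include k in
/-- Above a monomorphism of invertible modules the top cohomology can only drop. -/
theorem subsingleton_top_of_mono (hn : topologicalKrullDim X = ((n + 1 : ℕ) : WithBot ℕ∞)) {A B : X.Modules}
    (hA : PicF.IsInvertible A) (hB : PicF.IsInvertible B) (t : A ⟶ B) [Mono t]
    (h : Subsingleton (Coh.HH X A (n + 1))) : Subsingleton (Coh.HH X B (n + 1)) := by
  haveI := CurveCohLib.isNoetherian_of_proper (k := k) (X := X)
  haveI : X.IsSeparated := ⟨by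
    rw [show terminal.from X = (X ↘ Spec (CommRingCat.of k)) ≫ terminal.from _ from terminal.hom_ext _ _]
    infer_instance⟩
  have hAc := AmpleVan.isCoh_invertible hA
  have hBc := AmpleVan.isCoh_invertible hB
  have hQ := QCoh.isCoh_cokernel hAc.1 hBc t
  set η := genericPoint X with hηdef
  have hη : η ∉ CohB1.support (cokernel t) := by
    refine Snapper.notMem_support_cokernel t ?_
    let S := DerSch.stalkFunctor X η
    letI := (CurveBundle.isField_stalk_generic (X := X)).toField
    haveI : Module.Finite (X.presheaf.stalk η) (A.presheaf.stalk η) := CurveBundle.finite_stalk_of_coh hAc η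
    haveI : Module.Finite (X.presheaf.stalk η) (B.presheaf.stalk η) := CurveBundle.finite_stalk_of_coh hBc η
    have hinj : Function.Injective (S.map t).hom :=
      (ModuleCat.mono_iff_injective (S.map t)).1 inferInstance
    exact (ModuleCat.epi_iff_surjective (S.map t)).2
      ((LinearMap.injective_iff_surjective_of_finrank_eq_finrank
        ((finrank_stalk_invertible hA η).trans (finrank_stalk_invertible hB η).symm)).1 hinj)
  haveI : Subsingleton (Coh.HH X (cokernel t) (n + 1)) := by
    refine Snapper.subsingleton_HH_of_dim_lt (n + 1) ⟨_, QCoh.isClosed_support_of_isFT hQ.1 hQ.2⟩ ?_ _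
      hQ.1 subset_rfl _ le_rfl
    rw [← hn]
    exact H23.TopDim.dim_lt_of_ssubset (fun h => by
        rw [hn] at h
        exact ENat.natCast_ne_top _ (WithBot.coe_injective (h : (((n + 1 : ℕ) : ℕ∞) : WithBot ℕ∞) = _)))
      (QCoh.isClosed_support_of_isFT hQ.1 hQ.2) fun he => hη ((show CohB1.support (cokernel t) = Set.univ from he).ge trivial)
  exact QCoh.subsingleton_HH_X₂ (S := ShortComplex.mk t (cokernel.π t) (cokernel.condition t))
    (CurveSlope.shortExact_cokernel_of_mono t) (n + 1) h inferInstance

theorem limsup_top_eq_zero_of_mono {L : X.Modules} (hL : PicF.IsInvertible L)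
    (hn : topologicalKrullDim X = ((n + 1 : ℕ) : WithBot ℕ∞)) {A : X.Modules} (hA : CohB1.IsAmple A)
    {m₀ : ℕ} (hm₀ : 0 < m₀) (t : A ⟶ CohB1.tensorPow L m₀) [Mono t] {c : ℝ} (hc : 0 ≤ c) :
    limsup (normSeq (n + 1) c (hp k L (n + 1))) atTop = 0 := by
  haveI := CurveCohLib.isNoetherian_of_proper (k := k) (X := X)
  have hP := H23.PicMul.isInvertible_tensorPow hL m₀
  obtain ⟨q₀, hq₀⟩ := (S0051.result k X (X ↘ Spec (CommRingCat.of k)) A hA.1).1 hA _
    (QCoh.isCoh_structureModule' (X := X))
  have hz : ∀ q, q₀ ≤ q → hp k (CohB1.tensorPow L m₀) (n + 1) q = 0 := fun q hq => by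
    haveI : Subsingleton (Coh.HH X ((DCoh.tensorBi.obj (Coh.structureModule X)).obj (CohB1.tensorPow A q)) (n + 1)) :=
      hq₀ q hq (n + 1) (Nat.succ_pos n)
    have hs : Subsingleton (Coh.HH X (CohB1.tensorPow A q) (n + 1)) :=
      (CurveCohLib.hhEquiv (k := k) (CurveTensor.structureTensorIso (CohB1.tensorPow A q)) (n + 1)).symm.toEquiv.subsingleton
    obtain ⟨t', ht'⟩ := tensorPow_mono k hA.1 hP t q
    haveI := subsingleton_top_of_mono k hn (H23.PicMul.isInvertible_tensorPow hA.1 q)
      (H23.PicMul.isInvertible_tensorPow hP q) t' hs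
    exact Module.finrank_zero_of_subsingleton
  have h0 : limsup (normSeq (n + 1) c (hp k (CohB1.tensorPow L m₀) (n + 1))) atTop = 0 := by
    refine (limsup_congr (v := fun _ => (0 : ℝ)) ?_).trans (limsup_const 0)
    filter_upwards [eventually_ge_atTop q₀] with q hq
    rw [normSeq, hz q hq, Nat.cast_zero, zero_mul, zero_div]
  rw [limsup_hp_pow k hL hn hm₀ (n + 1) hc] at h0
  exact (mul_eq_zero.1 h0).resolve_left (pow_ne_zero _ (by exact_mod_cast hm₀.ne'))

end Groth.Agent.VarGrow31
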