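import Groth.Agent.VarReg31.PowGen
import Groth.Agent.VarGrow31.GenRank
import Groth.Agent.VarGrow31.Asymp
import Groth.Agent.VarGrow31.Volume
import Groth.Agent.Lib.StableBase
import Groth.Agent.Snapper.DimVanish
import Groth.Agent.Lib.CurveTensor
import Groth.Agent.CurveCohLib.GlobGen
import Groth.Agent.AmpleX.Pow

/-!
# Asymptotic cohomology above the dimension of the stable base locus
-/

noncomputable section

set_option linter.style.haveILetI false
set_option linter.unusedSectionVars false
set_option backward.isDefEq.respectTransparency false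
set_option backward.isDefEq.respectTransparency.types false

universe u

open CategoryTheory CategoryTheory.Limits AlgebraicGeometry TopologicalSpace Filter Topology Opposite

attribute [local instance] HasDerivedCategory.standard
attribute [local instance] Groth.Agent.QCoh.hasFiniteBiproducts

namespace Groth.Agent.VarGrow31

open Groth.Agent
open Groth.Agent.AmpleVan (itw tw pw twSys)
open Groth.Agent.H23.PicMul

variable {X : Scheme.{u}}

theorem support_tensor_subset_left {E F : X.Modules} :
    CohB1.support (CohB1.tensorMod E F) ⊆ CohB1.support E := by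
  intro x hx
  by_contra h
  haveI hs : Subsingleton (E.presheaf.stalk x) := not_not.1 h
  haveI hT : Subsingleton (TensorProduct (X.presheaf.stalk x) (E.presheaf.stalk x) (F.presheaf.stalk x)) :=
    subsingleton_of_forall_eq 0 fun t => by
      induction t using TensorProduct.induction_on with
      | zero => rfl
      | tmul a b => rw [Subsingleton.elim a 0, TensorProduct.zero_tmul]
      | add a b ha hb => rw [ha, hb, add_zero]
  exact hx (@Equiv.subsingleton _ _ (KFlatLib.stalkTensorIso x E F).symm.toLinearEquiv.toEquiv hT)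

/-- A section is an isomorphism on stalks at the points where it generates. -/
theorem isIso_stalk_of_mem_genLocus {L : X.Modules} {s : Coh.structureModule X ⟶ L} {x : X}
    (hx : x ∈ CohB1.genLocus L s) : IsIso ((DerSch.stalkFunctor X x).map s) := by
  have he := (AmpleX.res_genLocus_frame s).germ_bijective hx
  rw [ConcreteCategory.isIso_iff_bijective]
  let one : (DerSch.stalkFunctor X x).obj (Coh.structureModule X) :=
    (Coh.structureModule X).presheaf.germ ⊤ x trivial (1 : Γ(X, ⊤))
  have hone : (DerSch.stalkFunctor X x).map s one =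
      L.presheaf.germ (CohB1.genLocus L s) x hx (AModX.res L le_top (InvX.one s)) :=
    (DerSch.stalkFunctor_map_germ x s ⊤ trivial (1 : Γ(X, ⊤))).trans (InvX.germ_res' le_top hx _).symm
  have key : ∀ a : X.presheaf.stalk x, (DerSch.stalkFunctor X x).map s (a • one) =
      a • L.presheaf.germ (CohB1.genLocus L s) x hx (AModX.res L le_top (InvX.one s)) := fun a => by
    rw [← hone]
    exact map_smul ((DerSch.stalkFunctor X x).map s).hom a one
  refine ⟨fun a b hab => ?_, fun y => ?_⟩
  · obtain ⟨a, rfl⟩ := CurveCohLib.GlobGen.exists_smul_one x a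
    obtain ⟨b, rfl⟩ := CurveCohLib.GlobGen.exists_smul_one x b
    rw [key, key] at hab
    rw [he.1 hab]
  · obtain ⟨a, rfl⟩ := he.2 y
    exact ⟨a • one, key a⟩

section Cover

variable {r : ℕ} {N : X.Modules} (hN : PicF.IsInvertible N) (s : Fin r → (Coh.structureModule X ⟶ N))
  (M : X.Modules)

theorem word_replicate (k : Fin r) : ∀ n,
    (twSys hN (fun a => InvX.one (s a)) M).word n (Sym.replicate n k) = (pw (InvX.one (s k)) n).app M
  | 0 => rfl
  | n + 1 => by
    rw [Sym.replicate_succ, FFun.Gen.Sys.word_cons, word_replicate k n]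
    rfl

include hN in
theorem pw_app_surjective {k : Fin r} {V : X.Opens} (hV : V ≤ CohB1.genLocus N (s k)) : ∀ n,
    Function.Surjective (((pw (InvX.one (s k)) n).app M).app V)
  | 0 => fun y => ⟨y, rfl⟩
  | n + 1 => fun y => by
    have he : InvX.IsFrame (AModX.res N (le_top : V ≤ ⊤) (InvX.one (s k))) := by
      have h := (AmpleX.res_genLocus_frame (s k)).res hV
      rwa [AModX.res_res] at h
    obtain ⟨z, hz⟩ := (Eg2Twist.bijective_tmul_frame (M := (itw N n).obj M) he le_rfl).2 y
    dsimp only at hz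
    rw [AModX.res_self] at hz
    obtain ⟨t, rfl⟩ := pw_app_surjective hV n z
    refine ⟨t, ?_⟩
    subst hz
    rw [AmpleVan.pw_succ, Scheme.Modules.Hom.comp_app]
    rfl

include hN in
/-- The cokernel of the augmentation is supported on the common zeros of the sections. -/
theorem support_cokernel_aug [IsLocallyNoetherian X] (hM : Coh.IsCoh M) (n : ℕ) :
    CohB1.support (cokernel ((twSys hN (fun a => InvX.one (s a)) M).aug n)) ⊆
      {x | ∀ k, x ∉ CohB1.genLocus N (s k)} := by
  let S := twSys hN (fun a => InvX.one (s a)) M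
  intro x hx k hk
  have hF : Coh.IsCoh ((FFun.Gen.Sys.free (S.G 0) r).G n) := QCoh.isCoh_biproduct _ fun _ => hM
  have hT : Coh.IsCoh (S.G n) := AmpleVan.isCoh_itw hN hM n
  have hQ := QCoh.isCoh_cokernel hF.1 hT (S.aug n)
  refine hx (subsingleton_of_forall_eq 0 fun c => ?_)
  obtain ⟨W, hxW, c, rfl⟩ := TopCat.Presheaf.exists_germ_eq (cokernel (S.aug n)).presheaf c
  obtain ⟨_, ⟨V, hV, rfl⟩, hxV, hVW⟩ := X.isBasis_affineOpens.exists_subset_of_mem_open
    (show x ∈ ((W ⊓ CohB1.genLocus N (s k) : X.Opens) : Set X) from ⟨hxW, hk⟩) (W ⊓ CohB1.genLocus N (s k)).isOpen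
  have h1 : V ≤ W := fun y hy => (hVW hy).1
  have h2 : V ≤ CohB1.genLocus N (s k) := fun y hy => (hVW hy).2
  rw [← InvX.germ_res' h1 hxV c]
  obtain ⟨y, hy⟩ := QCoh.app_surjective_of_epi hT.1 hQ.1 (cokernel.π (S.aug n)) hV (AModX.res _ h1 c)
  obtain ⟨t, rfl⟩ := pw_app_surjective hN s M h2 n y
  rw [← hy]
  have e : (pw (InvX.one (s k)) n).app M ≫ cokernel.π (S.aug n) = 0 := by
    rw [← word_replicate hN s M k n,
      ← biproduct.ι_desc (fun a : ULift.{u} (Sym (Fin r) n) => S.word n a.down) ⟨Sym.replicate n k⟩,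
      Category.assoc]
    exact (congrArg _ (cokernel.condition _)).trans comp_zero
  refine (congrArg _ (congr(($e).app V t))).trans ?_
  exact map_zero _

end Cover

section Vanish

/-- The twists by an ample module of high power have no cohomology above the dimension of the base
locus, uniformly in the powers of `N`. -/
theorem exists_vanishing_above_zeros {A : Type u} [CommRing A] [IsNoetherianRing A]
    [X.Over (Spec (CommRingCat.of A))] [IsProper (X ↘ Spec (CommRingCat.of A))] {H : X.Modules} (hH : CohB1.IsAmple H) {r : ℕ} {N : X.Modules}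
    (hN : PicF.IsInvertible N) (s : Fin r → (Coh.structureModule X ⟶ N)) {d : ℕ}
    (hd : topologicalKrullDim ↥{x | ∀ k, x ∉ CohB1.genLocus N (s k)} ≤ (d : WithBot ℕ∞))
    {M : X.Modules} (hM : Coh.IsCoh M) :
    ∃ t₀, ∀ t, t₀ ≤ t → ∀ n i, d < i →
      Subsingleton (Coh.HH X (CohB1.tensorMod ((itw N n).obj M) (CohB1.tensorPow H t)) i) := by
  haveI : CompactSpace X := AmpleVan.compactSpace_of_proper (A := A)
  haveI := AmpleVan.isSeparated_of_proper (X := X) (A := A)
  haveI : IsLocallyNoetherian X := LocallyOfFiniteType.isLocallyNoetherian (X ↘ Spec (CommRingCat.of A))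
  haveI : IsNoetherian X := { __ := ‹IsLocallyNoetherian X›, __ := ‹CompactSpace X› }
  let S := twSys hN (fun a => InvX.one (s a)) M
  have hF : ∀ n, Coh.IsCoh ((FFun.Gen.Sys.free (S.G 0) r).G n) := fun n =>
    QCoh.isCoh_biproduct _ fun _ => hM
  have hT : ∀ n, Coh.IsCoh (S.G n) := fun n => AmpleVan.isCoh_itw hN hM n
  have hQ := fun n => QCoh.isCoh_cokernel (hF n).1 (hT n) (S.aug n)
  have hI : ∀ n, Coh.IsCoh ((VarReg31.imgSys S).G n) := fun n => QCoh.isCoh_kernel (hT n) (hQ n) _
  obtain ⟨t₀, ht₀⟩ := AmpleVan.exists_uniform_vanishing (A := A) hH _ hI (VarReg31.genFrom_imgSys S)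
  refine ⟨t₀, fun t ht n i hi => ?_⟩
  obtain ⟨q, rfl⟩ : ∃ q, i = q + 1 := ⟨i - 1, by omega⟩
  let P := CohB1.tensorPow H t
  have hP : PicF.IsInvertible P := InvX.isInvertible_tensorPow hH.1 t
  haveI := AmpleVan.isEquivalence_tw hP
  haveI : (tw P).Additive := Functor.additive_of_preserves_binary_products _
  have hS2 : (ShortComplex.mk (Abelian.image.ι (S.aug n)) (cokernel.π (S.aug n)) (kernel.condition _)).ShortExact :=
    { exact := ShortComplex.exact_of_f_is_kernel _ (kernelIsKernel (cokernel.π (S.aug n)))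
      mono_f := inferInstance
      epi_g := inferInstance }
  refine QCoh.subsingleton_HH_X₂ (hS2.map_of_exact (tw P)) (q + 1) (ht₀ t ht n q) ?_
  let B : Closeds X := ⟨{x | ∀ k, x ∉ CohB1.genLocus N (s k)}, by
    simp only [Set.setOf_forall]
    exact isClosed_iInter fun k => (CohB1.genLocus N (s k)).isOpen.isClosed_compl⟩
  refine Snapper.subsingleton_HH_of_dim_lt (d + 1) B (lt_of_le_of_lt hd (by exact_mod_cast Nat.lt_succ_self d))
    _ ?_ (support_tensor_subset_left.trans (support_cokernel_aug hN s M hM n)) _ hi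
  exact KFlatLib.isQCoh_tensor (hQ n).1 (ProjUPX.isQCoh_of_isInvertible hP)

end Vanish

section Growth

variable (k : Type u) [Field k] [X.Over (Spec (CommRingCat.of k))] [IsProper (X ↘ Spec (CommRingCat.of k))]
  [IsIntegral X]

/-- Above the dimension of the stable base locus the cohomology of the powers grows slowly. -/
theorem growLt_of_stableBaseLocus {H : X.Modules} (hH : CohB1.IsAmple H) {n : ℕ}
    (hn : topologicalKrullDim X = n) {L : X.Modules} (hL : PicF.IsInvertible L) {d : ℕ}
    (hd : topologicalKrullDim ↥(StableBase.sbs L) ≤ (d : WithBot ℕ∞)) {i : ℕ} (hi : d < i) :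
    GrowLt n (hp k L i) := by
  classical
  haveI := CurveCohLib.isNoetherian_of_proper (k := k) (X := X)
  obtain ⟨p, hp0, hp⟩ := StableBase.exists_eq_sbs hL
  let U : (Coh.structureModule X ⟶ CohB1.tensorPow L p) → X.Opens := fun s => CohB1.genLocus _ s
  obtain ⟨t, ht⟩ := (NoetherianSpace.isCompact (⋃ s, (U s : Set X))).elim_finite_subcover
    (fun s => (U s : Set X)) (fun s => (U s).isOpen) (le_refl _)
  let σ : Fin t.card → (Coh.structureModule X ⟶ CohB1.tensorPow L p) := fun a => (t.equivFin.symm a : _)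
  have hB : {x | ∀ a, x ∉ CohB1.genLocus (CohB1.tensorPow L p) (σ a)} = StableBase.sbs L := by
    rw [← hp]
    refine Set.Subset.antisymm (fun x hx s hs => ?_) (fun x hx a => hx _)
    obtain ⟨s', hs', hxs⟩ := Set.mem_iUnion₂.1 (ht (Set.mem_iUnion.2 ⟨s, hs⟩))
    refine hx (t.equivFin ⟨s', hs'⟩) ?_
    show x ∈ U (t.equivFin.symm (t.equivFin ⟨s', hs'⟩) : _)
    rw [Equiv.symm_apply_apply]
    exact hxs
  have hN := InvX.isInvertible_tensorPow hL p
  have hvan := fun r : Fin p => exists_vanishing_above_zeros (A := k) hH hN σ (d := d) (hB.symm ▸ hd)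
    (AmpleVan.isCoh_invertible (InvX.isInvertible_tensorPow hL (r : ℕ)))
  choose t₀ ht₀ using hvan
  obtain ⟨a, s, hxs, -⟩ := hH.2.2 (genericPoint X)
  let q := Finset.univ.sup t₀ + 1
  have hs := InvX.isInvertible_tensorPow hH.1 (a + 1)
  obtain ⟨σ', hσ'⟩ := AmpleX.exists_section_of_cl_eq (B := CohB1.tensorPow H ((a + 1) * q))
    (by simp only [cl_tensorPow, ← pow_mul, q]) (InvX.powHom s (Finset.univ.sup t₀ + 1))
  rw [InvX.genLocus_powHom hs s] at hσ'
  haveI := isIso_stalk_of_mem_genLocus (hσ'.symm ▸ hxs : genericPoint X ∈ CohB1.genLocus _ σ')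
  let P := CohB1.tensorPow H ((a + 1) * q)
  have hPc : Coh.IsCoh P := AmpleVan.isCoh_invertible (InvX.isInvertible_tensorPow hH.1 _)
  obtain ⟨sK, sC⟩ := small_of_iso_generic k hL hn QCoh.isCoh_structureModule' hPc σ' ‹_›
  obtain ⟨g, hg, hfg⟩ := exists_error_of_small k hL QCoh.isCoh_structureModule' hPc σ' sK sC i
  refine hg.mono fun m => ?_
  have h0 : VarGrow31.hd k L P i m = 0 := by
    have hle : t₀ ⟨m % p, Nat.mod_lt _ hp0⟩ ≤ (a + 1) * q :=
      ((Finset.le_sup (Finset.mem_univ _)).trans (Nat.le_succ _)).trans (Nat.le_mul_of_pos_left _ (Nat.succ_pos a))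
    haveI := ht₀ ⟨m % p, Nat.mod_lt _ hp0⟩ _ hle (m / p) i hi
    refine (CurveCohLib.hhEquiv (k := k) (cl_eq_iff.1 ?_).some i).finrank_eq.trans
      (Module.finrank_zero_of_subsingleton (R := k) (M := Coh.HH X (CohB1.tensorMod
        ((itw (CohB1.tensorPow L p) (m / p)).obj (CohB1.tensorPow L (m % p))) P) i))
    show PicF.cl (CohB1.tensorMod P (CohB1.tensorPow L m)) = _
    rw [cl_tensor, cl_tensor, AmpleVan.cl_itw, cl_tensorPow L p, cl_tensorPow L (m % p), cl_tensorPow L m,
      ← pow_mul, ← pow_add, Nat.mod_add_div, mul_comm]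
  have := (hfg m).1
  rw [← hp_eq_hd, h0] at this
  simpa using this

/-- The asymptotic cohomology vanishes above the dimension of the stable base locus. -/
theorem hhat_eq_zero_of_stableBaseLocus {H : X.Modules} (hH : CohB1.IsAmple H) {n : ℕ}
    (hn : topologicalKrullDim X = n) {L : X.Modules} (hL : PicF.IsInvertible L) {d : ℕ}
    (hd : topologicalKrullDim ↥(StableBase.sbs L) ≤ (d : WithBot ℕ∞)) {i : ℕ} (hi : d < i) :
    W4c5asymptcohfn.hhat k X n i L = 0 := by
  rw [hhat_eq]
  exact ((exists_bound_succ (growLt_of_stableBaseLocus k hH hn hL hd hi)).2 _).limsup_eq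

end Growth

end Groth.Agent.VarGrow31
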