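import Groth.Agent.VarGrow31.Basic
import Groth.Agent.SurfInt.Basic

/-!
# Growth of the cohomology of twists by several invertible modules

`dim_k H^i(X, M ⊗ L_1^{a_1} ⊗ ⋯ ⊗ L_r^{a_r}) ≤ C (a_1 + ⋯ + a_r + 1)^d` when the support of `M` has
dimension at most `d`; on an integral scheme the increments grow one order less.
-/

noncomputable section

set_option linter.style.haveILetI false
set_option linter.unusedSectionVars false
set_option backward.isDefEq.respectTransparency false
set_option backward.isDefEq.respectTransparency.types false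

universe u

open CategoryTheory CategoryTheory.Limits AlgebraicGeometry TopologicalSpace Opposite
open scoped Groth.Agent.H23.PicMul

namespace Groth.Agent.VarGrow31

open Groth.Agent

variable {r : ℕ}

/-- Growth of order less than `d` in several variables. -/
def GrowLtM : ℕ → ((Fin r → ℕ) → ℕ) → Prop
  | 0, f => ∀ a, f a = 0
  | d + 1, f => ∃ C : ℕ, ∀ a, f a ≤ C * ((∑ j, a j) + 1) ^ d

theorem GrowLtM.mono {d : ℕ} {f g : (Fin r → ℕ) → ℕ} (h : GrowLtM d f) (e : ∀ a, g a ≤ f a) :
    GrowLtM d g := by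
  cases d with
  | zero => exact fun a => Nat.le_zero.1 (h a ▸ e a)
  | succ d => exact h.imp fun C hC a => (e a).trans (hC a)

theorem GrowLtM.add {d : ℕ} {f g : (Fin r → ℕ) → ℕ} (h : GrowLtM d f) (h' : GrowLtM d g) :
    GrowLtM d (fun a => f a + g a) := by
  cases d with
  | zero => exact fun a => by simp [h a, h' a]
  | succ d =>
    obtain ⟨C, hC⟩ := h
    obtain ⟨C', hC'⟩ := h'
    exact ⟨C + C', fun a => by rw [add_mul]; exact add_le_add (hC a) (hC' a)⟩

theorem growLtM_zero (d : ℕ) : GrowLtM d (fun _ : Fin r → ℕ => 0) := by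
  cases d with
  | zero => exact fun _ => rfl
  | succ d => exact ⟨0, fun a => by simp⟩

theorem growLtM_sum {ι : Type*} (s : Finset ι) {d : ℕ} (f : ι → (Fin r → ℕ) → ℕ)
    (h : ∀ i ∈ s, GrowLtM d (f i)) : GrowLtM d (fun a => ∑ i ∈ s, f i a) := by
  classical
  induction s using Finset.induction_on with
  | empty => simpa using growLtM_zero d
  | insert i s hi ih =>
    exact ((h i (Finset.mem_insert_self i s)).add (ih fun j hj => h j (Finset.mem_insert_of_mem hj))).mono
      fun a => (Finset.sum_insert hi).le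

theorem exists_sub_single {a : Fin r → ℕ} {j : Fin r} (hj : 0 < a j) :
    ∃ b : Fin r → ℕ, a = b + Pi.single j 1 ∧ (∑ i, a i) = (∑ i, b i) + 1 := by
  classical
  refine ⟨Function.update a j (a j - 1), funext fun i => ?_, ?_⟩
  · rcases eq_or_ne i j with rfl | h
    · simp; omega
    · simp [h]
  · rw [Finset.sum_update_of_mem (Finset.mem_univ j),
      ← Finset.sum_sdiff (Finset.singleton_subset_iff.2 (Finset.mem_univ j)) (f := a), Finset.sum_singleton]
    omega

/-- Summing the increments raises the order by one. -/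
theorem GrowLtM.of_step {d : ℕ} {f g : (Fin r → ℕ) → ℕ} (h : GrowLtM d g)
    (e : ∀ a j, f (a + Pi.single j 1) ≤ f a + g a) : GrowLtM (d + 1) f := by
  have key : ∃ C, ∀ a, g a ≤ C * ((∑ j, a j) + 1) ^ (d - 1) ∧ (d = 0 → g a = 0) := by
    cases d with
    | zero => exact ⟨0, fun a => ⟨by simp [h a], fun _ => h a⟩⟩
    | succ d =>
      obtain ⟨C, hC⟩ := h
      exact ⟨C, fun a => ⟨hC a, fun h0 => absurd h0 d.succ_ne_zero⟩⟩
  obtain ⟨C, hC⟩ := key
  refine ⟨f 0 + C, fun a => ?_⟩
  generalize hs : (∑ j, a j) = s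
  induction s generalizing a with
  | zero =>
    have : a = 0 := funext fun j => Nat.le_zero.1 (hs ▸ Finset.single_le_sum (fun i _ => Nat.zero_le (a i))
      (Finset.mem_univ j))
    subst this
    simp
  | succ s ih =>
    obtain ⟨j, hj⟩ : ∃ j, 0 < a j := by
      by_contra! h0
      have : (∑ j, a j) = 0 := Finset.sum_eq_zero fun j _ => Nat.le_zero.1 (h0 j)
      omega
    obtain ⟨b, rfl, hb⟩ := exists_sub_single hj
    have hb' : (∑ i, b i) = s := by omega
    calc f (b + Pi.single j 1) ≤ f b + g b := e b j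
      _ ≤ (f 0 + C) * (s + 1) ^ d + g b := Nat.add_le_add_right (ih b hb') _
      _ ≤ (f 0 + C) * (s + 1 + 1) ^ d := by
        obtain ⟨h1, h2⟩ := hC b
        rw [hb'] at h1
        cases d with
        | zero => simp [h2 rfl]
        | succ d =>
          simp only [Nat.add_sub_cancel] at h1
          calc (f 0 + C) * (s + 1) ^ (d + 1) + g b
              ≤ (f 0 + C) * (s + 1) ^ (d + 1) + (f 0 + C) * (s + 1) ^ d :=
                Nat.add_le_add_left (h1.trans (Nat.mul_le_mul_right _ (Nat.le_add_left _ _))) _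
            _ = (f 0 + C) * ((s + 2) * (s + 1) ^ d) := by ring
            _ ≤ (f 0 + C) * (s + 1 + 1) ^ (d + 1) := by
              refine Nat.mul_le_mul_left _ ?_
              rw [pow_succ, mul_comm]
              exact Nat.mul_le_mul_right _ (Nat.pow_le_pow_left (by omega) d)

variable (k : Type u) [Field k] {X : Scheme.{u}} [X.Over (Spec (CommRingCat.of k))]

/-- `dim_k H^i` on isomorphism classes. -/
def hc (i : ℕ) : PicF.Cl X → ℕ :=
  Quot.lift (fun A => Module.finrank k (Coh.HH X A i)) fun _ _ ⟨e⟩ =>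
    (CurveCohLib.hhEquiv (k := k) e i).finrank_eq

theorem hc_cl (i : ℕ) (A : X.Modules) : hc k i (PicF.cl A) = Module.finrank k (Coh.HH X A i) := rfl

/-- The class of `L_1^{a_1} ⊗ ⋯ ⊗ L_r^{a_r}`. -/
def mclass (L : Fin r → X.Modules) (a : Fin r → ℕ) : PicF.Cl X := ∏ j, PicF.cl (L j) ^ a j

theorem cl_multiTwist' (L : Fin r → X.Modules) (a : Fin r → ℕ) :
    PicF.cl (FGA.multiTwist L a) = mclass L a := SurfInt.cl_multiTwist L a

theorem mclass_add_single (L : Fin r → X.Modules) (a : Fin r → ℕ) (j : Fin r) :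
    mclass L (a + Pi.single j 1) = mclass L a * PicF.cl (L j) := by
  simp only [mclass, Pi.add_apply, pow_add, Finset.prod_mul_distrib]
  congr 1
  rw [Finset.prod_eq_single j (fun i _ hi => by simp [hi]) (fun h => absurd (Finset.mem_univ j) h)]
  simp

theorem isInvertible_multiTwist {L : Fin r → X.Modules} (hL : ∀ j, PicF.IsInvertible (L j))
    (a : Fin r → ℕ) : PicF.IsInvertible (FGA.multiTwist L a) := by
  obtain ⟨P, hP, hPi⟩ := SurfInt.isInvertibleCl_prod (X := X) Finset.univ (fun j => PicF.cl (L j) ^ a j)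
    fun j _ => ⟨CohB1.tensorPow (L j) (a j), H23.PicMul.cl_tensorPow _ _,
      H23.PicMul.isInvertible_tensorPow (hL j) _⟩
  exact H23.PicMul.isInvertible_of_iso
    (H23.PicMul.cl_eq_iff.1 (hP.trans (cl_multiTwist' L a).symm)).some hPi

/-- The dimensions of the cohomology of the multiple twists. -/
def hm (L : Fin r → X.Modules) (M : X.Modules) (i : ℕ) (a : Fin r → ℕ) : ℕ :=
  hc k i (PicF.cl M * mclass L a)

theorem hm_eq (L : Fin r → X.Modules) (M : X.Modules) (i : ℕ) (a : Fin r → ℕ) :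
    hm k L M i a = Module.finrank k (Coh.HH X ((AmpleVan.tw (FGA.multiTwist L a)).obj M) i) := by
  rw [hm, ← cl_multiTwist', ← H23.PicMul.cl_tensor]
  rfl

theorem hm_tensor (L : Fin r → X.Modules) (A M : X.Modules) (i : ℕ) (a : Fin r → ℕ) :
    hm k L ((AmpleVan.tw M).obj A) i a = hc k i (PicF.cl A * PicF.cl M * mclass L a) := by
  rw [hm, ← H23.PicMul.cl_tensor]
  rfl

theorem hm_tensor_structure (L : Fin r → X.Modules) (M : X.Modules) (i : ℕ) (a : Fin r → ℕ) :
    hm k L ((AmpleVan.tw M).obj (Coh.structureModule X)) i a = hm k L M i a := by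
  rw [hm_tensor, ← H23.PicMul.one_def, one_mul, hm]

theorem hm_tensor_gen (L : Fin r → X.Modules) (M : X.Modules) (i : ℕ) (a : Fin r → ℕ) (j : Fin r) :
    hm k L ((AmpleVan.tw M).obj (L j)) i a = hm k L M i (a + Pi.single j 1) := by
  rw [hm_tensor, hm, mclass_add_single, mul_comm (PicF.cl (L j)), mul_assoc,
    mul_comm (PicF.cl (L j))]

attribute [irreducible] hm

/-- All cohomological degrees at once. -/
def SmallM (L : Fin r → X.Modules) (M : X.Modules) (d : ℕ) : Prop := ∀ i, GrowLtM d (hm k L M i)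

variable [IsProper (X ↘ Spec (CommRingCat.of k))] {L : Fin r → X.Modules}

section bounds

variable (hL : ∀ j, PicF.IsInvertible (L j)) {S : ShortComplex X.Modules} (hS : S.ShortExact)
  (h1 : Coh.IsCoh S.X₁) (h2 : Coh.IsCoh S.X₂) (h3 : Coh.IsCoh S.X₃)
include hL hS h1 h2 h3

theorem multi_bounds (i : ℕ) (a : Fin r → ℕ) :
    hm k L S.X₂ i a ≤ hm k L S.X₁ i a + hm k L S.X₃ i a ∧
    hm k L S.X₁ 0 a ≤ hm k L S.X₂ 0 a ∧
    hm k L S.X₁ (i + 1) a ≤ hm k L S.X₂ (i + 1) a + hm k L S.X₃ i a ∧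
    hm k L S.X₃ i a ≤ hm k L S.X₂ i a + hm k L S.X₁ (i + 1) a := by
  haveI := CurveCohLib.isNoetherian_of_proper (k := k) (X := X)
  have hP := isInvertible_multiTwist hL a
  let F := AmpleVan.tw (FGA.multiTwist L a)
  haveI := AmpleVan.isEquivalence_tw hP
  have hc : ∀ {A : X.Modules}, Coh.IsCoh A → Coh.IsCoh (F.obj A) := fun h =>
    AmpleVan.isCoh_tensor h (AmpleVan.isCoh_invertible hP)
  have hF := hS.map_of_exact F
  obtain ⟨x, y, z⟩ := S17630.bounds k (S := S.map F) hF (hc (A := S.X₁) h1) (hc (A := S.X₂) h2) (hc (A := S.X₃) h3) i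
  have w := finrank_X₃_le k (S := S.map F) hF (hc (A := S.X₁) h1) (hc (A := S.X₂) h2) (hc (A := S.X₃) h3) i
  rw [hm_eq k L S.X₁ i a, hm_eq k L S.X₁ 0 a, hm_eq k L S.X₁ (i + 1) a, hm_eq k L S.X₂ i a,
    hm_eq k L S.X₂ 0 a, hm_eq k L S.X₂ (i + 1) a, hm_eq k L S.X₃ i a]
  exact ⟨x, y, z, w⟩

theorem smallM_X₂ {d : ℕ} (a : SmallM k L S.X₁ d) (c : SmallM k L S.X₃ d) : SmallM k L S.X₂ d :=
  fun i => ((a i).add (c i)).mono fun m => (multi_bounds k hL hS h1 h2 h3 i m).1

end bounds

theorem smallM_of_support_empty (hL : ∀ j, PicF.IsInvertible (L j)) {M : X.Modules} (hM : Coh.IsQCoh M)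
    (h : CohB1.support M = ∅) (d : ℕ) : SmallM k L M d := by
  haveI := CurveCohLib.isNoetherian_of_proper (k := k) (X := X)
  have hz : IsZero M := QCoh.isZero_of_app_eq_zero hM fun W s =>
    TopCat.Presheaf.section_ext ⟨M.presheaf, M.isSheaf⟩ _ _ _ fun y hy => by
      haveI : Subsingleton (M.presheaf.stalk y) := not_not.1 fun hy' => h.le hy'
      exact Subsingleton.elim _ _
  intro i
  refine (growLtM_zero d).mono fun a => ?_
  haveI := AmpleVan.isEquivalence_tw (isInvertible_multiTwist hL a)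
  haveI := Euler.subsingleton_HH_of_isZero ((AmpleVan.tw (FGA.multiTwist L a)).map_isZero hz) i
  rw [hm_eq]
  exact (Module.finrank_zero_of_subsingleton (R := k)).le

/-- A map with small kernel and cokernel changes the cohomology by a small error. -/
theorem exists_errorM_of_small (hL : ∀ j, PicF.IsInvertible (L j)) {d : ℕ} {A B : X.Modules}
    (hA : Coh.IsCoh A) (hB : Coh.IsCoh B) (φ : A ⟶ B) (sK : SmallM k L (kernel φ) d)
    (sC : SmallM k L (cokernel φ) d) (i : ℕ) :
    ∃ g, GrowLtM d g ∧ ∀ a, hm k L A i a ≤ hm k L B i a + g a ∧ hm k L B i a ≤ hm k L A i a + g a := by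
  haveI := CurveCohLib.isNoetherian_of_proper (k := k) (X := X)
  have hK := QCoh.isCoh_kernel hA hB φ
  have hC := QCoh.isCoh_cokernel hA.1 hB φ
  have hI : Coh.IsCoh (Abelian.image φ) :=
    QCoh.isCoh_of_epi (Abelian.factorThruImage φ) hA (QCoh.isQCoh_kernel hB.1 hC.1 _)
  have hS1 : (ShortComplex.mk (kernel.ι φ) (Abelian.factorThruImage φ)
      ((cancel_mono (Abelian.image.ι φ)).1
        (by rw [Category.assoc, Abelian.image.fac, kernel.condition, zero_comp]))).ShortExact :=
    { exact := ShortComplex.exact_of_f_is_kernel _ (KernelFork.IsLimit.ofι' _ _ fun {T} t ht =>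
        ⟨kernel.lift φ t (by rw [← Abelian.image.fac φ, reassoc_of% ht, zero_comp]), kernel.lift_ι _ _ _⟩)
      mono_f := inferInstance
      epi_g := inferInstance }
  have hS2 : (ShortComplex.mk (Abelian.image.ι φ) (cokernel.π φ) (kernel.condition _)).ShortExact :=
    { exact := ShortComplex.exact_of_f_is_kernel _ (kernelIsKernel (cokernel.π φ))
      mono_f := inferInstance
      epi_g := inferInstance }
  refine ⟨fun a => (hm k L (kernel φ) i a + hm k L (kernel φ) (i + 1) a) +
    (hm k L (cokernel φ) i a + hm k L (cokernel φ) (i - 1) a),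
    ((sK i).add (sK (i + 1))).add ((sC i).add (sC (i - 1))), fun a => ?_⟩
  obtain ⟨p, -, -, q⟩ := multi_bounds k hL hS1 hK hA hI i a
  obtain ⟨-, u, v, -⟩ := multi_bounds k hL hS2 hI hB hC (i - 1) a
  have w := (multi_bounds k hL hS2 hI hB hC i a).1
  dsimp only at p q u v w ⊢
  cases i with
  | zero => simp only [Nat.zero_sub] at *; omega
  | succ i => simp only [Nat.add_sub_cancel] at *; omega

/-- Consecutive twists in one direction differ by the contribution of the complement of a frame. -/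
theorem exists_errorM_step (hL : ∀ j, PicF.IsInvertible (L j)) (j : Fin r) {d : ℕ} {C : Closeds X}
    {U : X.Opens} {e : Γ(L j, U)} (he : InvX.IsFrame e)
    (IH : ∀ M : X.Modules, Coh.IsCoh M → CohB1.support M ⊆ (C : Set X) \ U → SmallM k L M d)
    {M : X.Modules} (hM : Coh.IsCoh M) (hMC : CohB1.support M ⊆ C) (i : ℕ) :
    ∃ g, GrowLtM d g ∧ ∀ a, hm k L M i (a + Pi.single j 1) ≤ hm k L M i a + g a ∧
      hm k L M i a ≤ hm k L M i (a + Pi.single j 1) + g a := by
  haveI := CurveCohLib.isNoetherian_of_proper (k := k) (X := X)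
  obtain ⟨K, I, x, y, z, hK, hI, hx, hy, hz⟩ := Snapper.exists_link_frame (hL j) he
  have hLc := AmpleVan.isCoh_invertible (hL j)
  let F := AmpleVan.tw M
  have hsupp : ∀ A, CohB1.support (F.obj A) ⊆ C :=
    fun A => fun p hp => hMC (CurveTensor.support_tensor_subset (E := A) (F := M) hp)
  have hcoh : ∀ {A}, Coh.IsCoh A → Coh.IsCoh (F.obj A) := fun h => AmpleVan.isCoh_tensor h hM
  have err : ∀ {A B : X.Modules} (φ : A ⟶ B), Coh.IsCoh A → Coh.IsCoh B → Snapper.IsoOn U φ →
      ∃ g, GrowLtM d g ∧ ∀ a, hm k L (F.obj A) i a ≤ hm k L (F.obj B) i a + g a ∧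
        hm k L (F.obj B) i a ≤ hm k L (F.obj A) i a + g a := by
    intro A B φ hA hB hφ
    have hφ' := hφ.tensor M
    obtain ⟨hk, hc⟩ := Snapper.support_subset_compl hφ'
    obtain ⟨hk', hc'⟩ := Snapper.support_sub_of_map (hcoh (A := A) hA) (hcoh (A := B) hB) (F.map φ)
    exact exists_errorM_of_small k hL (hcoh (A := A) hA) (hcoh (A := B) hB) (F.map φ)
      (IH _ (QCoh.isCoh_kernel (hcoh (A := A) hA) (hcoh (A := B) hB) _) fun p hp => ⟨hsupp _ (hk' hp), hk hp⟩)
      (IH _ (QCoh.isCoh_cokernel (hcoh (A := A) hA).1 (hcoh (A := B) hB) _) fun p hp => ⟨hsupp _ (hc' hp), hc hp⟩) i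
  obtain ⟨g₁, hg₁, e1⟩ := err x hK QCoh.isCoh_structureModule' hx
  obtain ⟨g₂, hg₂, e2⟩ := err y hK hI hy
  obtain ⟨g₃, hg₃, e3⟩ := err z hLc hI hz
  refine ⟨fun a => g₁ a + g₂ a + g₃ a, (hg₁.add hg₂).add hg₃, fun a => ?_⟩
  have h1 : hm k L (F.obj (Coh.structureModule X)) i a = hm k L M i a := hm_tensor_structure k L M i a
  have h2 : hm k L (F.obj (L j)) i a = hm k L M i (a + Pi.single j 1) := hm_tensor_gen k L M i a j
  have a1 := e1 a
  have a2 := e2 a
  have a3 := e3 a
  dsimp only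
  omega

/-- A split into pieces with smaller supports. -/
theorem smallM_of_split (hL : ∀ j, PicF.IsInvertible (L j)) {d : ℕ} {C C₁ C₂ : Closeds X}
    (hC : (C : Set X) ⊆ ↑C₁ ∪ ↑C₂)
    (h₁ : ∀ M : X.Modules, Coh.IsCoh M → CohB1.support M ⊆ C₁ → SmallM k L M d)
    (h₂ : ∀ M : X.Modules, Coh.IsCoh M → CohB1.support M ⊆ C₂ → SmallM k L M d)
    {M : X.Modules} (hM : Coh.IsCoh M) (hMC : CohB1.support M ⊆ C) : SmallM k L M d := by
  haveI := CurveCohLib.isNoetherian_of_proper (k := k) (X := X)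
  let U : X.Opens := ⟨(C₂ : Set X)ᶜ, C₂.isClosed.isOpen_compl⟩
  let φ := Snapper.resMap U M
  have hQ : Coh.IsQCoh ((Scheme.Modules.pushforward U.ι).obj (M.restrict U.ι)) :=
    QCoh.isQCoh_pushforward U.ι (QCoh.isQCoh_restrict U.ι hM.1)
  have hco := QCoh.isQCoh_cokernel hM.1 hQ φ
  have hI : Coh.IsCoh (Abelian.image φ) :=
    QCoh.isCoh_of_epi (Abelian.factorThruImage φ) hM (QCoh.isQCoh_kernel hQ hco _)
  have hK : Coh.IsCoh (kernel φ) := QCoh.isCoh_of_mono (kernel.ι φ) hM (QCoh.isQCoh_kernel hM.1 hQ φ)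
  refine smallM_X₂ k hL
    (S := ShortComplex.mk (kernel.ι φ) (Abelian.factorThruImage φ)
      ((cancel_mono (Abelian.image.ι φ)).1 (by rw [Category.assoc, Abelian.image.fac, kernel.condition, zero_comp])))
    { exact := ShortComplex.exact_of_f_is_kernel _ (KernelFork.IsLimit.ofι' _ _ fun {T} t ht =>
        ⟨kernel.lift φ t (by rw [← Abelian.image.fac φ, reassoc_of% ht, zero_comp]), kernel.lift_ι _ _ _⟩)
      mono_f := inferInstance
      epi_g := inferInstance } hK hM hI (h₂ _ hK fun x hx => ?_) (h₁ _ hI fun x hx => ?_)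
  · exact not_not.1 fun hx2 =>
      (Snapper.support_subset_compl (Snapper.isoOn_resMap U M)).1 hx (show x ∈ U from hx2)
  · by_contra hx1
    have hP := QCoh.mem_support_of_mono hI.1 hQ (Abelian.image.ι φ) hx
    refine Snapper.notMem_support_push (W := ⟨(C₁ : Set X)ᶜ, C₁.isClosed.isOpen_compl⟩) hx1 ?_ hP
    exact Set.disjoint_left.2 fun y hy hyM => (hC (hMC hyM)).elim hy.1 hy.2

/-- Removing an open set containing a point of an irreducible closed set lowers the dimension. -/
theorem dim_diff_lt {X : Scheme.{u}} {C : Closeds X} [IrreducibleSpace ↥(C : Set X)] {d : ℕ}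
    (hC : topologicalKrullDim ↥(C : Set X) < ((d + 1 : ℕ) : WithBot ℕ∞)) {η : X}
    (hηC : η ∈ (C : Set X)) {U : X.Opens} (hηU : η ∈ U) :
    topologicalKrullDim ↥((C : Set X) \ U) < (d : WithBot ℕ∞) := by
  let Y : Set ↥(C : Set X) := {y | (y : X) ∈ (U : Set X)ᶜ}
  have hlt := H23.TopDim.dim_lt_of_ssubset (X := ↥(C : Set X)) (fun h => by rw [h] at hC; exact not_top_lt hC)
    (Y := Y) (U.2.isClosed_compl.preimage continuous_subtype_val)
    (fun h => (h.ge (Set.mem_univ ⟨η, hηC⟩) : η ∈ (U : Set X)ᶜ) hηU)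
  have hle : topologicalKrullDim ↥((C : Set X) \ U) ≤ topologicalKrullDim ↥Y := by
    let g : ↥((C : Set X) \ U) → ↥Y := fun p => ⟨⟨p.1, p.2.1⟩, p.2.2⟩
    have hg : Continuous g := (continuous_subtype_val.subtype_mk _).subtype_mk _
    have hcomp : Topology.IsInducing ((Subtype.val ∘ Subtype.val : ↥Y → X) ∘ g) :=
      show Topology.IsInducing (Subtype.val : ↥((C : Set X) \ U) → X) from Topology.IsInducing.subtypeVal
    exact ((Topology.IsInducing.subtypeVal.comp Topology.IsInducing.subtypeVal).of_comp_iff.1 hcomp).topologicalKrullDim_le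
  refine lt_of_le_of_lt hle ?_
  revert hlt hC
  generalize topologicalKrullDim ↥Y = a
  generalize topologicalKrullDim ↥(C : Set X) = b
  intro hC hlt
  cases a with
  | bot => exact WithBot.bot_lt_coe _
  | coe a =>
    cases b with
    | bot => exact absurd hlt not_lt_bot
    | coe b =>
      have h1 : a < b := WithBot.coe_lt_coe.1 hlt
      have h2 : b < ((d + 1 : ℕ) : ℕ∞) := WithBot.coe_lt_coe.1 hC
      refine WithBot.coe_lt_coe.2 (lt_of_lt_of_le h1 ?_)
      exact ENat.lt_add_one_iff (ENat.natCast_ne_top d) |>.1 (by exact_mod_cast h2)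

/-- The step: comparison of consecutive twists over frames. -/
theorem smallM_step (hL : ∀ j, PicF.IsInvertible (L j)) {d : ℕ} {C : Closeds X} {η : X}
    (IH : ∀ U : X.Opens, η ∈ U → ∀ M : X.Modules, Coh.IsCoh M → CohB1.support M ⊆ (C : Set X) \ U →
      SmallM k L M d)
    {M : X.Modules} (hM : Coh.IsCoh M) (hMC : CohB1.support M ⊆ C) : SmallM k L M (d + 1) := by
  intro i
  have hg : ∀ j, ∃ g, GrowLtM d g ∧ ∀ a, hm k L M i (a + Pi.single j 1) ≤ hm k L M i a + g a ∧
      hm k L M i a ≤ hm k L M i (a + Pi.single j 1) + g a := fun j => by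
    obtain ⟨U, hU, e, he⟩ := InvX.exists_frame (hL j) η
    exact exists_errorM_step k hL j he (IH U hU) hM hMC i
  choose g hg he using hg
  refine GrowLtM.of_step (g := fun a => ∑ j, g j a) (growLtM_sum _ g fun j _ => hg j) fun a j => ?_
  have h1 := (he j a).1
  have h2 : g j a ≤ ∑ j, g j a :=
    Finset.single_le_sum (f := fun j => g j a) (fun _ _ => Nat.zero_le _) (Finset.mem_univ j)
  omega

/-- The cohomology of the multiple twists of a coherent module grows at most like the power of the size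
of the exponent given by the dimension of the support. -/
theorem smallM_of_dim_lt (hL : ∀ j, PicF.IsInvertible (L j)) (d : ℕ) :
    ∀ (C : Closeds X), topologicalKrullDim ↥(C : Set X) < (d : WithBot ℕ∞) →
      ∀ M : X.Modules, Coh.IsCoh M → CohB1.support M ⊆ C → SmallM k L M d := by
  haveI := CurveCohLib.isNoetherian_of_proper (k := k) (X := X)
  induction d with
  | zero =>
    intro C hC M hM hMC
    refine smallM_of_support_empty k hL hM.1 (Set.eq_empty_of_forall_notMem fun x hx => ?_) 0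
    haveI : Nonempty ↥(C : Set X) := ⟨⟨x, hMC hx⟩⟩
    haveI : Nonempty (IrreducibleCloseds ↥(C : Set X)) :=
      ⟨⟨closure {⟨x, hMC hx⟩}, isIrreducible_singleton.closure, isClosed_closure⟩⟩
    exact absurd hC (not_lt.2 (by exact_mod_cast Order.krullDim_nonneg))
  | succ d IHd =>
    intro C
    induction C using WellFoundedLT.induction with
    | ind C IH =>
      intro hC M hM hMC
      rcases Set.eq_empty_or_nonempty (C : Set X) with h0 | hne
      · exact smallM_of_support_empty k hL hM.1 (Set.subset_empty_iff.1 (h0 ▸ hMC)) _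
      by_cases hirr : IsIrreducible (C : Set X)
      · obtain ⟨η, hη⟩ := QuasiSober.sober hirr C.isClosed
        have hηC : η ∈ (C : Set X) := hη.mem
        refine smallM_step k hL (η := η) (fun U hηU N hN hNs =>
          IHd ⟨_, C.isClosed.sdiff U.2⟩ ?_ N hN hNs) hM hMC
        haveI : IrreducibleSpace ↥(C : Set X) := isIrreducible_iff_irreducibleSpace.1 hirr
        exact dim_diff_lt hC hηC hηU
      · obtain ⟨A, B, hA, hB, hsub, hnA, hnB⟩ : ∃ A B : Set X, IsClosed A ∧ IsClosed B ∧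
            (C : Set X) ⊆ A ∪ B ∧ ¬ (C : Set X) ⊆ A ∧ ¬ (C : Set X) ⊆ B := by
          by_contra! hno
          exact hirr ⟨hne, isPreirreducible_iff_isClosed_union_isClosed.2 fun A B hA hB hs =>
            or_iff_not_imp_left.2 fun hA' => hno A B hA hB hs hA'⟩
        let C₁ : Closeds X := ⟨(C : Set X) ∩ A, C.isClosed.inter hA⟩
        let C₂ : Closeds X := ⟨(C : Set X) ∩ B, C.isClosed.inter hB⟩
        have h1 : C₁ < C := lt_of_le_of_ne (Set.inter_subset_left : (C : Set X) ∩ A ⊆ C)
          fun h => hnA (Set.inter_eq_left.1 (congrArg (SetLike.coe) h))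
        have h2 : C₂ < C := lt_of_le_of_ne (Set.inter_subset_left : (C : Set X) ∩ B ⊆ C)
          fun h => hnB (Set.inter_eq_left.1 (congrArg (SetLike.coe) h))
        have hdim : ∀ C' : Closeds X, C' ≤ C → topologicalKrullDim ↥(C' : Set X) < ((d + 1 : ℕ) : WithBot ℕ∞) :=
          fun C' h => lt_of_le_of_lt (H23.TopDim.dim_le_dim_of_subset (show (C' : Set X) ⊆ C from h)) hC
        exact smallM_of_split k hL (C := C) (C₁ := C₁) (C₂ := C₂)
          (fun x hx => (hsub hx).imp (fun h => ⟨hx, h⟩) fun h => ⟨hx, h⟩)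
          (IH C₁ h1 (hdim C₁ h1.le)) (IH C₂ h2 (hdim C₂ h2.le)) hM hMC

theorem smallM_top (hL : ∀ j, PicF.IsInvertible (L j)) {n : ℕ} (hn : topologicalKrullDim X ≤ n)
    {M : X.Modules} (hM : Coh.IsCoh M) : SmallM k L M (n + 1) :=
  smallM_of_dim_lt k hL (n + 1) ⊤ (lt_of_le_of_lt ((topologicalKrullDim_subspace_le X _).trans hn)
    (by exact_mod_cast Nat.lt_succ_self n)) M hM (fun _ _ => trivial)

/-- On an integral scheme of dimension `n` the increments have order less than `n`. -/
theorem exists_errorM_top [IsIntegral X] (hL : ∀ j, PicF.IsInvertible (L j)) {n : ℕ}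
    (hn : topologicalKrullDim X ≤ n) {M : X.Modules} (hM : Coh.IsCoh M) (i : ℕ) :
    ∃ g, GrowLtM n g ∧ ∀ a j, hm k L M i (a + Pi.single j 1) ≤ hm k L M i a + g a ∧
      hm k L M i a ≤ hm k L M i (a + Pi.single j 1) + g a := by
  haveI := CurveCohLib.isNoetherian_of_proper (k := k) (X := X)
  have hC : topologicalKrullDim ↥((⊤ : Closeds X) : Set X) < ((n + 1 : ℕ) : WithBot ℕ∞) :=
    lt_of_le_of_lt ((topologicalKrullDim_subspace_le X _).trans hn)
      (by exact_mod_cast Nat.lt_succ_self n)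
  haveI : IrreducibleSpace ↥((⊤ : Closeds X) : Set X) :=
    isIrreducible_iff_irreducibleSpace.1 (IrreducibleSpace.isIrreducible_univ X)
  have hg : ∀ j, ∃ g, GrowLtM n g ∧ ∀ a, hm k L M i (a + Pi.single j 1) ≤ hm k L M i a + g a ∧
      hm k L M i a ≤ hm k L M i (a + Pi.single j 1) + g a := fun j => by
    obtain ⟨U, hU, e, he⟩ := InvX.exists_frame (hL j) (genericPoint X)
    exact exists_errorM_step k hL j (C := ⊤) he (fun N hN hNs =>
      smallM_of_dim_lt k hL n ⟨_, isClosed_univ.sdiff U.2⟩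
        (dim_diff_lt (η := genericPoint X) hC trivial hU) N hN hNs) hM (fun _ _ => trivial) i
  choose g hg he using hg
  refine ⟨fun a => ∑ j, g j a, growLtM_sum _ g fun j _ => hg j, fun a j => ?_⟩
  have h2 : g j a ≤ ∑ j, g j a :=
    Finset.single_le_sum (f := fun j => g j a) (fun _ _ => Nat.zero_le _) (Finset.mem_univ j)
  have := he j a
  dsimp only
  omega

end Groth.Agent.VarGrow31
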